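import Cfsg.Agent.Lib.Goldschmidt.General.RankFacts.Linear
import Cfsg.Agent.Lib.PSL2.Existence
import Cfsg.Agent.Lib.PSL2.Soluble
import Cfsg.Agent.Lib.PairsCyclic.Basic

/-!
# Sylow 2-subgroups of the groups `PSL₂(q)` with abelian ones (owner: helper72)

* `GoodField F` : `q = 2ⁿ ≥ 4` or `q ≡ 3, 5 (mod 8)`, `q ≥ 5`
* `sylow_sq_psl` : their Sylow 2-subgroups have exponent two; `simple_psl`, `not_comm_psl`
-/

set_option autoImplicit false
set_option linter.unusedSectionVars false
set_option linter.style.haveILetI false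

namespace Cfsg.Agent.U3Type

open Cfsg Subgroup Cfsg.Agent.Goldschmidt.General
open scoped Pointwise

universe u

/-- The fields of the groups `PSL₂` with abelian Sylow 2-subgroups. -/
def GoodField (F : Type) [Fintype F] : Prop :=
  ((Fintype.card F % 8 = 3 ∨ Fintype.card F % 8 = 5) ∧ 5 ≤ Fintype.card F) ∨
    ∃ n : ℕ, 2 ≤ n ∧ Fintype.card F = 2 ^ n

variable {F : Type} [Field F] [Fintype F]

theorem four_le_card (h : GoodField F) : 4 ≤ Nat.card F := by
  rw [Nat.card_eq_fintype_card]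
  rcases h with ⟨-, h⟩ | ⟨n, hn, h⟩
  · omega
  · rw [h]; exact le_trans (by norm_num : 4 ≤ 2 ^ 2) (Nat.pow_le_pow_right (by norm_num) hn)

theorem sylow_sq_psl (h : GoodField F) {L : Type u} [Group L] [Finite L]
    (e : L ≃* Matrix.ProjectiveSpecialLinearGroup (Fin 2) F) (S : Sylow 2 L) :
    ∀ x ∈ S, x * x = 1 := by
  classical
  haveI : Fact (Nat.Prime 2) := ⟨Nat.prime_two⟩
  have h4 := four_le_card h
  haveI := PSL2.isSimpleGroup_psl (L := F) h4
  haveI hL : IsSimpleGroup L := e.isSimpleGroup_congr.2 inferInstance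
  rcases h with ⟨h8, h5⟩ | ⟨n, hn, hF⟩
  · -- the order of the Sylow subgroup is four
    have hq8 : Nat.card F % 8 = 3 ∨ Nat.card F % 8 = 5 := by rwa [Nat.card_eq_fintype_card]
    have hcard := PSL2.card_psl_mul (F := F)
    set q := Nat.card F with hq
    have hg : Nat.gcd 2 (q - 1) = 2 := Nat.gcd_eq_left (by omega)
    rw [hg] at hcard
    obtain ⟨k, hk⟩ := IsPGroup.iff_card.1 S.isPGroup'
    have hdvd : ∀ j : ℕ, 2 ^ j ∣ Nat.card L ↔ j ≤ k := fun j => by
      refine ⟨fun hj => ?_, fun hj => (pow_dvd_pow 2 hj).trans (hk ▸ Subgroup.card_subgroup_dvd_card _)⟩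
      have := S.pow_dvd_card_of_pow_dvd_card hj
      rw [hk] at this
      exact (Nat.pow_dvd_pow_iff_le_right (by norm_num)).1 this
    obtain ⟨w, hw, hwo⟩ : ∃ w, (q + 1) * (q - 1) = 8 * w ∧ w % 2 = 1 := by
      obtain ⟨r, hr | hr⟩ : ∃ r, q = 8 * r + 3 ∨ q = 8 * r + 5 := ⟨q / 8, by omega⟩
      · exact ⟨(2 * r + 1) * (4 * r + 1), by rw [hr, show 8 * r + 3 - 1 = 8 * r + 2 by omega]; ring,
          by simp [Nat.mul_mod, Nat.add_mod]⟩
      · exact ⟨(4 * r + 3) * (2 * r + 1), by rw [hr, show 8 * r + 5 - 1 = 8 * r + 4 by omega]; ring,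
          by simp [Nat.mul_mod, Nat.add_mod]⟩
    have hLcard : Nat.card L = 4 * (q * w) := by
      rw [hw] at hcard
      rw [Nat.card_congr e.toEquiv]
      change 2 * Nat.card (Matrix.ProjectiveSpecialLinearGroup (Fin 2) F) = q * (8 * w) at hcard
      rw [mul_left_comm] at hcard
      linarith
    have hk2 : k = 2 := by
      have h1 : 2 ≤ k := (hdvd 2).1 (by rw [hLcard]; exact dvd_mul_right _ _)
      have h2 : ¬ 3 ≤ k := fun h3 => by
        have := (hdvd 3).2 h3
        rw [hLcard, show (2 : ℕ) ^ 3 = 4 * 2 by norm_num, Nat.mul_dvd_mul_iff_left (by norm_num)] at this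
        rcases (Nat.Prime.dvd_mul Nat.prime_two).1 this with h | h <;> omega
      omega
    have hnc : ¬ IsCyclic ↥(S : Subgroup L) := fun hc => by
      obtain ⟨P, N, hN, hcompl⟩ := PairsCyclic.hasNormalPComplement_two S hc rfl
      haveI := hN
      have hP4 : Nat.card ↥(P : Subgroup L) = 4 := by
        rw [← Nat.card_congr (S.equiv P).toEquiv, hk, hk2]; norm_num
      have h1 : Nat.card ↥N * Nat.card ↥(P : Subgroup L) = Nat.card L := hcompl.card_mul
      rw [hP4, hLcard] at h1
      rcases hN.eq_bot_or_eq_top with hb | ht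
      · rw [hb, Subgroup.card_bot] at h1
        nlinarith [show 1 ≤ w by omega]
      · rw [ht, Subgroup.card_top, hLcard] at h1
        have : 1 ≤ q * w := Nat.mul_pos (by omega) (by omega)
        omega
    intro x hx
    by_contra hx2
    refine hnc (isCyclic_of_orderOf_eq_card (⟨x, hx⟩ : ↥(S : Subgroup L)) ?_)
    have hd : orderOf (⟨x, hx⟩ : ↥(S : Subgroup L)) ∣ 2 ^ 2 := by
      have h' := orderOf_dvd_natCard (⟨x, hx⟩ : ↥(S : Subgroup L))
      rwa [hk, hk2] at h'
    obtain ⟨j, hj, he⟩ := (Nat.dvd_prime_pow Nat.prime_two).1 hd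
    rw [he, hk, hk2]
    have hj2 : ¬ j ≤ 1 := fun hj1 => hx2 (by
      have : (⟨x, hx⟩ : ↥(S : Subgroup L)) ^ 2 = 1 :=
        orderOf_dvd_iff_pow_eq_one.1 (he ▸ (pow_dvd_pow 2 hj1).trans (dvd_of_eq (pow_one 2)))
      rw [pow_two] at this
      exact congrArg Subtype.val this)
    rw [show j = 2 by omega]
  · -- the translations
    obtain ⟨e'⟩ := Rank.pgl_equiv_psl (n := n) (by omega) hF
    haveI : Finite (PSL2.PGL2 F) := Finite.of_surjective _ Matrix.ProjGenLinGroup.mk_surjective
    have h2 : (2 : F) = 0 := by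
      have h0 : ((2 : ℕ) : F) ^ n = 0 := by
        rw [← Nat.cast_pow, ← hF]; exact FiniteField.cast_card_eq_zero F
      exact_mod_cast eq_zero_of_pow_eq_zero h0
    set T := (Rank.translHom (F := F)).range with hT
    have hTi : Function.Injective (Rank.translHom (F := F)) := fun x y e =>
      Multiplicative.toAdd.injective (PSL2.aff_inj.1 e).2
    have hTc : Nat.card ↥T = 2 ^ n := by
      rw [← Nat.card_congr (MonoidHom.ofInjective hTi).toEquiv, Nat.card_congr Multiplicative.toAdd,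
        Nat.card_eq_fintype_card, hF]
    obtain ⟨P, hTP⟩ := (IsPGroup.of_card hTc : IsPGroup 2 ↥T).exists_le_sylow
    have hPT : T = (P : Subgroup (PSL2.PGL2 F)) := by
      refine Subgroup.eq_of_le_of_card_ge hTP ?_
      obtain ⟨j, hj⟩ := IsPGroup.iff_card.1 P.isPGroup'
      rw [hTc, hj]
      refine Nat.pow_le_pow_right (by norm_num) ?_
      by_contra hlt
      have hdiv : 2 ^ (n + 1) ∣ Nat.card (Matrix.ProjectiveSpecialLinearGroup (Fin 2) F) := by
        rw [Nat.card_congr e'.toEquiv]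
        exact (pow_dvd_pow 2 (not_le.1 hlt)).trans (hj ▸ Subgroup.card_subgroup_dvd_card _)
      have hc := PSL2.card_psl_mul (F := F)
      rw [Nat.card_eq_fintype_card (α := F), hF] at hc
      have h1 : 2 ^ (n + 1) ∣ 2 ^ n * ((2 ^ n + 1) * (2 ^ n - 1)) := hc ▸ hdiv.mul_left _
      rw [pow_succ, Nat.mul_dvd_mul_iff_left (Nat.two_pow_pos n)] at h1
      have he : Even (2 ^ n) := (Nat.even_pow' (by omega)).2 even_two
      have := even_iff_two_dvd.1 he
      have := Nat.two_pow_pos n
      rcases (Nat.Prime.dvd_mul Nat.prime_two).1 h1 with h | h <;> omega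
    have hsq : ∀ y ∈ (P : Subgroup (PSL2.PGL2 F)), y * y = 1 := by
      intro y hy
      rw [← hPT] at hy
      obtain ⟨b, rfl⟩ := hy
      rw [← map_mul, show b * b = 1 from Multiplicative.toAdd.injective (by
        rw [toAdd_mul, toAdd_one, ← two_mul, h2, zero_mul]), map_one]
    intro x hx
    refine (e.trans e').injective ?_
    rw [map_mul, map_one]
    obtain ⟨g, hg⟩ := MulAction.exists_smul_eq (PSL2.PGL2 F) P
      (S.comapOfInjective (e.trans e').symm.toMonoidHom (e.trans e').symm.injective (by simp))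
    set y := (e.trans e') x with hy
    have hy' : y ∈ g • P := by
      rw [hg]
      show (e.trans e').symm y ∈ S
      rwa [hy, MulEquiv.symm_apply_apply]
    have h1 : y ∈ MulAut.conj g • (P : Subgroup (PSL2.PGL2 F)) := hy'
    rw [Subgroup.mem_pointwise_smul_iff_inv_smul_mem, MulAut.smul_def, ← map_inv, MulAut.conj_apply,
      inv_inv] at h1
    have h2 := hsq _ h1
    rw [show g⁻¹ * y * g * (g⁻¹ * y * g) = g⁻¹ * (y * y) * g by group] at h2
    calc y * y = g * (g⁻¹ * (y * y) * g) * g⁻¹ := by group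
      _ = 1 := by rw [h2, mul_one, mul_inv_cancel]

end Cfsg.Agent.U3Type
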