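import Cfsg.Agent.Lib.U3Type.PSLSylow
import Cfsg.Agent.S3188
import Cfsg.Agent.Lib.Transfer.AbelianHall
import Cfsg.Agent.Lib.Transfer.Tate
import Cfsg.Agent.Lib.StrongEmb.Basic
import Cfsg.Agent.Lib.OddOrderTheorem.Basic

/-!
# Abelian Sylow 2-subgroups in which every involution is a square (owner: helper72)

* `solvable_of_abelian_sylow` : soluble if the non-central involutions have soluble centralisers
-/

set_option autoImplicit false
set_option linter.unusedSectionVars false
set_option linter.style.haveILetI false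

namespace Cfsg.Agent.U3Type

open Cfsg Subgroup
open scoped Pointwise commutatorElement

universe u

variable {X : Type u} [Group X] [Finite X]

theorem solvable_of_abelian_sylow (R : Sylow 2 X) (hR : IsMulCommutative ↥(R : Subgroup X))
    (hsq : ∀ z ∈ R, z * z = 1 → ∃ w ∈ R, w * w = z)
    (hC : ∀ t : X, orderOf t = 2 → t ∉ Subgroup.center X →
      Group.IsSolvable ↥(centralizer ({t} : Set X))) : Group.IsSolvable X := by
  classical
  haveI : Fact (Nat.Prime 2) := ⟨Nat.prime_two⟩
  have habel : ∀ (P : Sylow 2 X), IsMulCommutative ↥(P : Subgroup X) := fun P =>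
    ⟨⟨fun a b => (R.equiv P).symm.injective (by rw [map_mul, map_mul]; exact hR.is_comm.comm _ _)⟩⟩
  by_contra hns
  set H := commutator X with hH
  have hHns : ¬ Group.IsSolvable ↥H := fun h => hns (by
    haveI := h
    exact Group.isSolvable_of_ker_le_range H.subtype (Abelianization.of (G := X))
      (by rw [Abelianization.ker_of, Subgroup.range_subtype]))
  have hHt : ∀ t : ↥H, orderOf t = 2 → (t : X) ∉ Subgroup.center X := fun t ht hc => by
    obtain ⟨P, hP⟩ := (IsPGroup.of_card (n := 1) (p := 2) (G := zpowers (t : X))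
      (by rw [pow_one, Nat.card_zpowers, Subgroup.orderOf_coe, ht])).exists_le_sylow
    have h1 := Transfer.inf_commutator_inf_center_eq_bot (P : Subgroup X) (habel P) P.card_coprime_index
    have h2 : (t : X) ∈ (P : Subgroup X) ⊓ commutator X ⊓ Subgroup.center X :=
      ⟨⟨hP (mem_zpowers _), t.2⟩, hc⟩
    rw [h1, mem_bot] at h2
    rw [show t = 1 from Subtype.ext h2, orderOf_one] at ht
    omega
  have hHC : ∀ t : ↥H, orderOf t = 2 → Group.IsSolvable ↥(centralizer ({t} : Set ↥H)) := fun t ht => by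
    haveI := hC (t : X) (by rw [Subgroup.orderOf_coe, ht]) (hHt t ht)
    let f : ↥(centralizer ({t} : Set ↥H)) →* ↥(centralizer ({(t : X)} : Set X)) :=
      (H.subtype.comp (centralizer ({t} : Set ↥H)).subtype).codRestrict _ fun x =>
        mem_centralizer_singleton_iff.2 (congrArg Subtype.val (mem_centralizer_singleton_iff.1 x.2))
    refine Group.isSolvable_of_isSolvable_injective (f := f) fun a b hab => ?_
    exact Subtype.ext (Subtype.ext
      (congrArg (fun z : ↥(centralizer ({(t : X)} : Set X)) => (z : X)) hab))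
  let TH : Sylow 2 ↥H := default
  have hTH : IsMulCommutative ↥(TH : Subgroup ↥H) := by
    obtain ⟨P, hP⟩ := (TH.isPGroup'.map H.subtype).exists_le_sylow
    refine ⟨⟨fun a b => Subtype.ext (Subtype.ext ?_)⟩⟩
    exact (congrArg Subtype.val ((habel P).is_comm.comm ⟨_, hP ⟨a, a.2, rfl⟩⟩ ⟨_, hP ⟨b, b.2, rfl⟩⟩) :)
  obtain ⟨F, _, _, hF, N, hNn, ⟨e⟩, hcen⟩ := (S3188.result TH hTH hHC).resolve_left hHns
  haveI := PSL2.isSimpleGroup_psl (L := F) (four_le_card hF)
  haveI hNs : IsSimpleGroup ↥N := e.isSimpleGroup_congr.2 inferInstance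
  haveI := hNn
  haveI hOn : (oddCore ↥H).Normal := Cores.pPrimeCore_normal 2 _
  set π := QuotientGroup.mk' (oddCore ↥H) with hπ
  set J0 : Subgroup ↥H := N.comap π with hJ0
  haveI hJ0c : J0.Characteristic := by
    refine characteristic_iff_map_le.2 fun φ => ?_
    have hO : (oddCore ↥H).map (φ : ↥H →* ↥H) = oddCore ↥H := Cores.pPrimeCore_map_mulEquiv φ 2
    set ψ := QuotientGroup.congr (oddCore ↥H) (oddCore ↥H) φ hO with hψ
    set N' := N.map ψ.toMonoidHom with hN'
    haveI : N'.Normal := hNn.map _ ψ.surjective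
    have hne : N ≠ ⊥ := (Subgroup.nontrivial_iff_ne_bot N).1 inferInstance
    have hN'N : N' = N := by
      rcases (inferInstance : ((N' ⊓ N).subgroupOf N).Normal).eq_bot_or_eq_top with hb | ht
      · rw [subgroupOf_eq_bot, disjoint_iff, inf_assoc, inf_idem] at hb
        refine absurd ?_ hne
        have h1 : N' ≤ centralizer (N : Set _) := fun x hx => mem_centralizer_iff.2 fun y hy =>
          (Subgroup.commute_of_normal_of_disjoint N' N inferInstance inferInstance (disjoint_iff.2 hb)
            x y hx hy).eq.symm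
        rw [hcen, le_bot_iff, hN', Subgroup.map_eq_bot_iff_of_injective (f := ψ.toMonoidHom) _ ψ.injective] at h1
        exact h1
      · have hle : N ≤ N' := (subgroupOf_eq_top.1 ht).trans inf_le_left
        exact (eq_of_le_of_card_ge hle (le_of_eq
          (Nat.card_congr (N.equivMapOfInjective _ ψ.injective).toEquiv).symm)).symm
    rintro _ ⟨x, hx, rfl⟩
    show π (φ x) ∈ N
    rw [show π (φ x) = ψ (π x) from rfl, ← hN'N]
    exact ⟨π x, hx, rfl⟩
  set J : Subgroup X := J0.map H.subtype with hJ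
  haveI hJn : J.Normal := Cores.map_subtype_normal_of_characteristic H J0
  -- a Sylow subgroup of `J`
  set E : Subgroup X := (R : Subgroup X) ⊓ J with hE
  have hE2 : ∀ x ∈ E, x * x = 1 := by
    rintro x ⟨hxR, y, hy, rfl⟩
    have hy2 : IsPGroup 2 (zpowers y) := by
      refine IsPGroup.of_injective (R.isPGroup'.to_le (zpowers_le.2 hxR) : IsPGroup 2 (zpowers (y : X)))
        ((H.subtype.comp (zpowers y).subtype).codRestrict _ fun z => ?_) fun a b h => ?_
      · obtain ⟨k, hk⟩ := mem_zpowers_iff.1 z.2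
        exact mem_zpowers_iff.2 ⟨k, by show (y : X) ^ k = ((z : ↥H) : X); rw [← hk]; rfl⟩
      · exact Subtype.ext (Subtype.ext (congrArg (fun z : ↥(zpowers (y : X)) => (z : X)) h))
    obtain ⟨TN, hTN⟩ := ((hy2.map π).of_equiv
      (Subgroup.subgroupOfEquivOfLe (show (zpowers y).map π ≤ N by
        rw [MonoidHom.map_zpowers, zpowers_le]; exact hy)).symm).exists_le_sylow
    have h1 := sylow_sq_psl hF e TN ⟨π y, hy⟩ (hTN ⟨y, mem_zpowers y, rfl⟩)
    have h2 : π (y * y) = 1 := by rw [map_mul]; exact congrArg Subtype.val h1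
    rw [hπ, QuotientGroup.mk'_apply, QuotientGroup.eq_one_iff] at h2
    obtain ⟨k, hk⟩ := IsPGroup.iff_orderOf.1 hy2 ⟨y * y, mul_mem (mem_zpowers y) (mem_zpowers y)⟩
    rw [Subgroup.orderOf_mk] at hk
    have h3 : orderOf (y * y) = 1 := Nat.eq_one_of_dvd_coprimes
      ((Cores.coprime_card_pPrimeCore (G := ↥H) 2).pow_right k).symm (dvd_of_eq hk)
      (orderOf_dvd_natCard _ h2)
    exact congrArg Subtype.val (orderOf_eq_one_iff.1 h3)
  have hEc : ∀ x ∈ E, ∀ r ∈ R, r * x = x * r := fun x hx r hr =>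
    congrArg Subtype.val (hR.is_comm.comm ⟨r, hr⟩ ⟨x, hx.1⟩)
  let PJ : Sylow 2 ↥J := ((R.isPGroup'.to_le inf_le_left : IsPGroup 2 ↥E).of_equiv
    (Subgroup.subgroupOfEquivOfLe inf_le_right).symm).toSylow
      (by rw [inf_subgroupOf_right]; exact StrongEmb.not_dvd_relIndex_inf R J)
  have hPJ : (PJ : Subgroup ↥J) = E.subgroupOf J := rfl
  obtain ⟨n, hn, a, ha, hna⟩ : ∃ n : ↥J, n ∈ normalizer ((PJ : Subgroup ↥J) : Set ↥J) ∧
      ∃ a ∈ PJ, n * a ≠ a * n := by
    by_contra! hcon
    obtain ⟨P', K, hK, hcompl⟩ := Transfer.hasNormalPComplement_of_normalizer_le_centralizer PJ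
      fun n hn => mem_centralizer_iff.2 fun a ha => (hcon n hn a ha).symm
    haveI := hK
    haveI : Group.IsSolvable ↥K := OddOrderTheorem.solvable (by
      rw [← hcompl.index_eq_card, Nat.odd_iff, ← Nat.two_dvd_ne_zero]
      exact P'.not_dvd_index)
    haveI : Group.IsSolvable (↥J ⧸ K) := by
      haveI := (P'.2.of_equiv hcompl.symm.QuotientMulEquiv.symm).isNilpotent
      infer_instance
    haveI hJs : Group.IsSolvable ↥J :=
      Group.isSolvable_of_ker_le_range K.subtype (QuotientGroup.mk' K) (by simp)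
    haveI : Group.IsSolvable ↥J0 := Group.isSolvable_of_isSolvable_injective
      (f := (J0.equivMapOfInjective H.subtype H.subtype_injective).toMonoidHom) (MulEquiv.injective _)
    haveI : Group.IsSolvable ↥N := Group.isSolvable_of_surjective (f := π.subgroupComap N)
      (MonoidHom.subgroupComap_surjective_of_surjective π N (QuotientGroup.mk'_surjective _))
    haveI : Group.IsSolvable (PSL2.PSL2 F) :=
      Group.isSolvable_of_surjective (f := e.toMonoidHom) e.surjective
    exact PSL2.not_comm_psl (L := F) (by have := four_le_card hF; omega)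
      (IsSimpleGroup.comm_iff_isSolvable.2 inferInstance)
  -- `n` may be taken normalising `R`
  set M : Subgroup X := (J ⊔ (R : Subgroup X)) ⊓ centralizer (E : Set X) with hM
  have hRM : (R : Subgroup X) ≤ M := fun r hr => ⟨mem_sup_right hr,
    mem_centralizer_iff.2 fun x hx => (hEc x hx r hr).symm⟩
  have hnE : ∀ x ∈ E, (n : X)⁻¹ * x * n ∈ E := fun x hx => by
    have := (mem_normalizer_iff.1 (inv_mem hn) ⟨x, hx.2⟩).1 hx
    rw [inv_inv] at this
    exact this
  have hnM : ((n : X) • R : Sylow 2 X) ≤ M := fun y hy => by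
    change y ∈ MulAut.conj (n : X) • (R : Subgroup X) at hy
    rw [Subgroup.mem_pointwise_smul_iff_inv_smul_mem, MulAut.smul_def, ← map_inv, MulAut.conj_apply,
      inv_inv] at hy
    refine ⟨?_, mem_centralizer_iff.2 fun x hx => ?_⟩
    · have : y = (n : X) * ((n : X)⁻¹ * y * n) * (n : X)⁻¹ := by group
      rw [this]
      have hnJ : (n : X) ∈ J ⊔ (R : Subgroup X) := mem_sup_left n.2
      exact (J ⊔ (R : Subgroup X)).mul_mem ((J ⊔ (R : Subgroup X)).mul_mem hnJ (mem_sup_right hy))
        ((J ⊔ (R : Subgroup X)).inv_mem hnJ)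
    · have := hEc _ (hnE x hx) _ hy
      calc x * y = (n : X) * ((n : X)⁻¹ * x * n * ((n : X)⁻¹ * y * n)) * (n : X)⁻¹ := by group
        _ = (n : X) * ((n : X)⁻¹ * y * n * ((n : X)⁻¹ * x * n)) * (n : X)⁻¹ := by rw [this]
        _ = y * x := by group
  obtain ⟨c, hc⟩ := MulAction.exists_smul_eq ↥M (((n : X) • R).subtype hnM) (R.subtype hRM)
  rw [Sylow.smul_subtype] at hc
  replace hc : (c : X) • ((n : X) • R) = R := Sylow.subtype_injective hc
  rw [smul_smul] at hc
  set d := (c : X) * n with hd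
  have hdN : d ∈ normalizer ((R : Subgroup X) : Set X) := Sylow.smul_eq_iff_mem_normalizer.1 hc
  have hdJR : d ∈ ((J : Set X) * ((R : Subgroup X) : Set X)) := by
    rw [← normal_mul]
    exact mul_mem c.2.1 (mem_sup_left n.2)
  obtain ⟨j, hj, r, hr, hjr⟩ := Set.mem_mul.1 hdJR
  have hjN : j ∈ normalizer ((R : Subgroup X) : Set X) := by
    rw [show j = d * r⁻¹ by rw [← hjr, mul_inv_cancel_right]]
    exact mul_mem hdN (inv_mem (le_normalizer (show r ∈ (R : Subgroup X) from hr)))
  have haE : (a : X) ∈ E := ha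
  have hja : j * a * j⁻¹ = n * a * (n : X)⁻¹ := by
    have hnaE : (n : X) * a * (n : X)⁻¹ ∈ E := (mem_normalizer_iff.1 hn a).1 ha
    calc j * a * j⁻¹ = j * (r * a * r⁻¹) * j⁻¹ := by rw [hEc _ haE r hr, mul_inv_cancel_right]
      _ = d * a * d⁻¹ := by rw [← hjr]; group
      _ = (c : X) * ((n : X) * a * (n : X)⁻¹) * (c : X)⁻¹ := by rw [hd]; group
      _ = _ := by rw [(mem_centralizer_iff.1 c.2.2 _ hnaE).symm, mul_inv_cancel_right]
  obtain ⟨w, hw', hw2⟩ := hsq a haE.1 (hE2 a haE)
  have hw : w ∈ (R : Subgroup X) := hw'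
  set s := j * w * j⁻¹ * w⁻¹ with hs
  have hwR : j * w * j⁻¹ ∈ (R : Subgroup X) := (mem_normalizer_iff.1 hjN w).1 hw
  have hsE : s ∈ E := ⟨mul_mem hwR ((R : Subgroup X).inv_mem hw), by
    rw [hs, show j * w * j⁻¹ * w⁻¹ = j * (w * j⁻¹ * w⁻¹) by group]
    exact mul_mem hj (hJn.conj_mem _ (inv_mem hj) w)⟩
  refine hna (Subtype.ext ?_)
  show (n : X) * a = a * n
  rw [← mul_inv_eq_iff_eq_mul, ← hja, ← hw2]
  calc j * (w * w) * j⁻¹ = (s * w) * (s * w) := by rw [hs]; group
    _ = s * (w * s) * w := by group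
    _ = s * (s * w) * w := by rw [hEc s hsE w hw']
    _ = (s * s) * (w * w) := by group
    _ = w * w := by rw [hE2 s hsE, one_mul]

end Cfsg.Agent.U3Type
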