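import Cfsg.Agent.Lib.U3Type.Setting
import Cfsg.Agent.Lib.CoreKilling.SolvableMain
import Cfsg.Agent.Lib.Bender.CoreInCore
import Cfsg.Agent.Lib.Bender.RankOneHalf
import Cfsg.Agent.Lib.PQAutomizer.Key

/-!
# The strongly embedded subgroup for Sylow 2-subgroups of type `PSU₃(q)` (owner: helper72)

* `Min.exists_elementary` : a normal elementary abelian subgroup of order `q` of the Sylow image
* `Min.cores_trivial`, `Min.modCent_le` : the centralisers lie in `N(S)`
* `Min.embedded` : the image of `N(S)` is strongly embedded; `Min.center_eq_bot`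
-/

set_option autoImplicit false
set_option linter.unusedSectionVars false
set_option linter.style.haveILetI false

namespace Cfsg.Agent.U3Type

open Cfsg Subgroup
open scoped Pointwise commutatorElement

universe u

variable {G : Type u} [Group G] [Finite G] {S : Sylow 2 G} {q : ℕ}

namespace Min

variable (M : Min G S q)
include M

/-- The image of the square roots of central elements in a centraliser. -/
theorem exists_elementary : ∃ A : Subgroup (G ⧸ Subgroup.center G),
    A ≤ (S : Subgroup G).map proj ∧ (A.subgroupOf ((S : Subgroup G).map proj)).Normal ∧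
      IsMulCommutative ↥A ∧ (∀ x ∈ A, x * x = 1) ∧ Nat.card ↥A = q := by
  obtain ⟨u, hu, hun⟩ := M.shape.exists_not_mem
  set R := (S : Subgroup G) ⊓ centralizer ({u} : Set G) with hR
  have hRc : ∀ x ∈ R, ∀ y ∈ R, x * y = y * x := fun x hx y hy => M.shape.abel u hu hun x hx.1 y hy.1
    (mem_centralizer_singleton_iff.1 hx.2) (mem_centralizer_singleton_iff.1 hy.2)
  let U : Subgroup G :=
    { carrier := {w | w ∈ R ∧ w * w ∈ Subgroup.center G}
      one_mem' := ⟨one_mem R, by simp⟩
      mul_mem' := fun {a b} ha hb => ⟨mul_mem ha.1 hb.1, by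
        rw [show a * b * (a * b) = a * (b * a) * b by group, ← hRc a ha.1 b hb.1,
          show a * (a * b) * b = a * a * (b * b) by group]
        exact mul_mem ha.2 hb.2⟩
      inv_mem' := fun {a} ha => ⟨inv_mem ha.1, by
        rw [show a⁻¹ * a⁻¹ = (a * a)⁻¹ by group]; exact inv_mem ha.2⟩ }
  have hUR : U ≤ R := fun x hx => hx.1
  have hzU : zc (S : Subgroup G) ≤ U := fun z hz =>
    ⟨Shape.zc_le_centralizer hu hz, by rw [M.shape.sq_zc hz]; exact one_mem _⟩
  have hcU : Subgroup.center G ≤ U := M.center_le.trans hzU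
  let sq : ↥U →* ↥(Subgroup.center G) :=
    { toFun := fun w => ⟨(w : G) * w, w.2.2⟩
      map_one' := Subtype.ext (one_mul 1)
      map_mul' := fun a b => Subtype.ext (by
        show (a : G) * b * (a * b) = (a : G) * a * (b * b)
        rw [show (a : G) * b * (a * b) = a * ((b : G) * a) * b by group, hRc b b.2.1 a a.2.1]
        group) }
  have hsur : Function.Surjective sq := fun c => by
    obtain ⟨w, hw, hwu, hww⟩ := M.shape.exists_sq hu hun (M.center_le c.2)
    exact ⟨⟨w, ⟨hw, mem_centralizer_singleton_iff.2 hwu⟩, hww ▸ c.2⟩, Subtype.ext hww⟩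
  have hker : sq.ker = (zc (S : Subgroup G)).subgroupOf U := by
    ext w
    rw [MonoidHom.mem_ker, mem_subgroupOf, ← M.shape.omega w w.2.1.1, ← Subtype.coe_inj]
    rfl
  have hcard : Nat.card ↥U = q * Nat.card ↥(Subgroup.center G) := by
    have h1 := Subgroup.card_mul_index sq.ker
    rw [Subgroup.index_ker, sq.range_eq_top.2 hsur, Subgroup.card_top, hker,
      Nat.card_congr (Subgroup.subgroupOfEquivOfLe hzU).toEquiv, M.shape.card_zc] at h1
    exact h1.symm
  refine ⟨U.map proj, map_mono (hUR.trans inf_le_left), ⟨?_⟩, ⟨⟨?_⟩⟩, ?_, ?_⟩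
  · rintro ⟨x, hx⟩ hxA ⟨y, hy⟩
    obtain ⟨s, hs, rfl⟩ := hy
    obtain ⟨w, hw, hwx⟩ := (mem_subgroupOf.1 hxA : x ∈ U.map proj)
    refine mem_subgroupOf.2 ⟨s * w * s⁻¹, ?_, by rw [map_mul, map_mul, map_inv, hwx]; rfl⟩
    rw [show s * w * s⁻¹ = ⁅s, w⁆ * w by rw [commutatorElement_def]; group]
    exact mul_mem (hzU (M.shape.comm s hs w hw.1.1)) hw
  · rintro ⟨_, x, hx, rfl⟩ ⟨_, y, hy, rfl⟩
    exact Subtype.ext (show proj x * proj y = proj y * proj x by
      rw [← map_mul, ← map_mul, hRc x hx.1 y hy.1])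
  · rintro _ ⟨w, hw, rfl⟩
    rw [← map_mul]
    exact (QuotientGroup.eq_one_iff _).2 hw.2
  · have h1 := Cores.card_map_mul_ker proj U (by rw [QuotientGroup.ker_mk']; exact hcU)
    rw [QuotientGroup.ker_mk', hcard] at h1
    exact Nat.eq_of_mul_eq_mul_right Nat.card_pos h1

theorem quot_core : pPrimeCore 2 (G ⧸ Subgroup.center G) = ⊥ := by
  haveI : Fact (Nat.Prime 2) := ⟨Nat.prime_two⟩
  exact PQAutomizer.pPrimeCore_quotient_central M.core (HalfClasses.isPGroup_center M.core) le_rfl

theorem cores_trivial {x : G ⧸ Subgroup.center G} (hx : orderOf x = 2) :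
    centralizerPPrimeCore 2 x = ⊥ := by
  haveI : Fact (Nat.Prime 2) := ⟨Nat.prime_two⟩
  obtain ⟨A, hA, hAn, hAc, hAsq, hAcard⟩ := M.exists_elementary
  let T : Sylow 2 (G ⧸ Subgroup.center G) := S.mapSurjective (QuotientGroup.mk'_surjective _)
  refine CoreKilling.core_eq_bot_of_solvable (fun H hH => Bender.oddCore_le Bender.rankOneHalf hH)
    M.quot_core T A hA hAn hAc (fun hle => ?_) (fun t ht => M.quot_cent_solvable ht) x hx
  have h1 := hle ⊤ ⟨⟨fun a b => Subtype.ext (hAc.is_comm.comm a.1 b.1)⟩⟩ fun a _ =>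
    Subtype.ext (by rw [pow_two]; exact hAsq a a.2)
  rw [Subgroup.card_top, hAcard] at h1
  have := M.shape.eight_le
  omega

theorem core_modCent {s : G} (hs2 : s * s ∈ Subgroup.center G) (hsc : s ∉ Subgroup.center G) :
    pPrimeCore 2 ↥(modCent s) = ⊥ := by
  haveI : Fact (Nat.Prime 2) := ⟨Nat.prime_two⟩
  have hord : orderOf (proj s) = 2 := orderOf_eq_prime
    (by rw [pow_two, ← map_mul]; exact (QuotientGroup.eq_one_iff _).2 hs2)
    fun h => hsc ((QuotientGroup.eq_one_iff _).1 h)
  have hC := (Subgroup.map_eq_bot_iff_of_injective _ (Subgroup.subtype_injective _)).1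
    (M.cores_trivial hord)
  rw [eq_bot_iff]
  intro g hg
  have h1 := Cores.map_pPrimeCore_le
    (proj.subgroupComap (centralizer ({proj s} : Set (G ⧸ Subgroup.center G))))
    (MonoidHom.subgroupComap_surjective_of_surjective _ _ (QuotientGroup.mk'_surjective _)) 2
    ⟨g, hg, rfl⟩
  rw [hC, mem_bot] at h1
  have hgc : (g : G) ∈ Subgroup.center G := (QuotientGroup.eq_one_iff _).1 (congrArg Subtype.val h1)
  have hd : orderOf g ∣ 2 := orderOf_dvd_of_pow_eq_one (Subtype.ext (by
    rw [pow_two]; exact M.sq_center hgc))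
  exact mem_bot.2 (orderOf_eq_one_iff.1 (Nat.eq_one_of_dvd_coprimes
    (Cores.coprime_card_pPrimeCore (G := ↥(modCent s)) 2) (orderOf_dvd_natCard _ hg) hd))

theorem le_modCent_of_zc {s : G} (hs : s ∈ (S : Subgroup G))
    (h : s ∈ zc (S : Subgroup G) ∨ zc (S : Subgroup G) ≤ Subgroup.center G) :
    (S : Subgroup G) ≤ modCent s := fun r hr => by
  rw [mem_modCent]
  rcases h with h | h
  · rw [commutatorElement_eq_one_iff_mul_comm.2 ((mem_zc.1 h).2 r hr)]
    exact one_mem _
  · exact h (M.shape.comm r hr s hs)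

theorem modCent_le_of_le {s : G} (hs : s ∈ (S : Subgroup G)) (hs2 : s * s ∈ Subgroup.center G)
    (hsc : s ∉ Subgroup.center G) (hSX : (S : Subgroup G) ≤ modCent s) :
    modCent s ≤ normalizer ((S : Subgroup G) : Set G) := by
  haveI := M.modCent_solvable hs hsc
  have hsh : Shape ((S.subtype hSX : Sylow 2 ↥(modCent s)) : Subgroup ↥(modCent s)) q :=
    shape_of_uType (M.shape.uType.congr (Subgroup.subgroupOfEquivOfLe hSX).symm)
  exact (Subgroup.normal_subgroupOf_iff_le_normalizer hSX).1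
    (normal_of_solvable (M.core_modCent hs2 hsc) _ hsh)

theorem normalizer_zc_le {a : G} (ha : a ∈ zc (S : Subgroup G)) (hac : a ∉ Subgroup.center G) :
    normalizer (zc (S : Subgroup G) : Set G) ≤ normalizer ((S : Subgroup G) : Set G) := fun g hg => by
  have hSX : (S : Subgroup G) ≤ modCent a := M.le_modCent_of_zc ha.1 (Or.inl ha)
  have hN := M.modCent_le_of_le ha.1 (by rw [M.shape.sq_zc ha]; exact one_mem _) hac hSX
  have hle : ((g • S : Sylow 2 G) : Subgroup G) ≤ normalizer ((S : Subgroup G) : Set G) := fun y hy => by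
    refine hN (centralizer_le_modCent a (mem_centralizer_singleton_iff.2 ?_))
    rw [Sylow.coe_subgroup_smul, Subgroup.mem_pointwise_smul_iff_inv_smul_mem, MulAut.smul_def,
      ← map_inv, MulAut.conj_apply, inv_inv] at hy
    have hz : g⁻¹ * a * g ∈ zc (S : Subgroup G) := by
      have := (mem_normalizer_iff.1 (inv_mem hg) a).1 ha
      rwa [inv_inv] at this
    calc y * a = g * ((g⁻¹ * y * g) * (g⁻¹ * a * g)) * g⁻¹ := by group
      _ = g * ((g⁻¹ * a * g) * (g⁻¹ * y * g)) * g⁻¹ := by rw [(mem_zc.1 hz).2 _ hy]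
      _ = a * y := by group
  haveI := Sylow.unique_of_normal (S.subtype Subgroup.le_normalizer)
    (Subgroup.normal_in_normalizer (H := (S : Subgroup G)))
  have h1 : (g • S).subtype hle = S.subtype Subgroup.le_normalizer := Subsingleton.elim _ _
  exact Sylow.smul_eq_iff_mem_normalizer.1 (Sylow.subtype_injective h1)

/-- The centralisers modulo the centre lie in `N(S)`. -/
theorem modCent_le {s : G} (hs : s ∈ (S : Subgroup G)) (hs2 : s * s ∈ Subgroup.center G)
    (hsc : s ∉ Subgroup.center G) : modCent s ≤ normalizer ((S : Subgroup G) : Set G) := by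
  haveI : Fact (Nat.Prime 2) := ⟨Nat.prime_two⟩
  by_cases hcase : s ∈ zc (S : Subgroup G) ∨ zc (S : Subgroup G) ≤ Subgroup.center G
  · exact M.modCent_le_of_le hs hs2 hsc (M.le_modCent_of_zc hs hcase)
  push Not at hcase
  obtain ⟨hsz, hnle⟩ := hcase
  obtain ⟨a, ha, hac⟩ := SetLike.not_le_iff_exists.1 hnle
  refine le_trans ?_ (M.normalizer_zc_le ha hac)
  set X := centralizer ({s} : Set G) with hX
  have hXn : modCent s ≤ normalizer (X : Set G) := fun g hg => by
    obtain ⟨c, hc⟩ : ∃ c ∈ Subgroup.center G, g * s * g⁻¹ = c * s :=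
      ⟨⁅g, s⁆, mem_modCent.1 hg, by rw [commutatorElement_def]; group⟩
    refine mem_normalizer_iff.2 fun x => ?_
    rw [hX, mem_centralizer_singleton_iff, mem_centralizer_singleton_iff]
    have e1 : g * x * g⁻¹ * (g * s * g⁻¹) = g * (x * s) * g⁻¹ := by group
    have e2 : g * s * g⁻¹ * (g * x * g⁻¹) = g * (s * x) * g⁻¹ := by group
    rw [hc.2] at e1 e2
    have hcc := mem_center_iff.1 hc.1
    constructor
    · intro h
      rw [← h] at e2
      have e3 : g * x * g⁻¹ * (c * s) = c * s * (g * x * g⁻¹) := e1.trans e2.symm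
      rw [← mul_assoc, hcc, mul_assoc, mul_assoc c] at e3
      exact mul_left_cancel e3
    · intro h
      have e3 : g * x * g⁻¹ * (c * s) = c * s * (g * x * g⁻¹) := by
        rw [← mul_assoc, hcc, mul_assoc, h, mul_assoc c]
      rw [e1, e2] at e3
      exact mul_left_cancel (mul_right_cancel e3)
  haveI := M.centralizer_solvable hs hsz
  -- the odd core of `C(s)` is trivial
  have hXcore : pPrimeCore 2 ↥X = ⊥ := by
    haveI hchar := Cores.pPrimeCore_characteristic 2 ↥X
    set T := (pPrimeCore 2 ↥X).map X.subtype with hT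
    have hTle : T ≤ modCent s := (map_subtype_le _).trans (centralizer_le_modCent s)
    haveI : (T.subgroupOf (modCent s)).Normal := (Subgroup.normal_subgroupOf_iff_le_normalizer hTle).2
      (hXn.trans (Cores.normalizer_le_normalizer_map (hC := hchar) _))
    have h1 : T.subgroupOf (modCent s) ≤ pPrimeCore 2 ↥(modCent s) := Cores.le_pPrimeCore inferInstance (by
      rw [Nat.card_congr (Subgroup.subgroupOfEquivOfLe hTle).toEquiv, hT,
        Subgroup.card_map_of_injective X.subtype_injective]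
      exact Cores.coprime_card_pPrimeCore 2)
    rw [M.core_modCent hs2 hsc, le_bot_iff, subgroupOf_eq_bot, disjoint_iff, inf_eq_left.2 hTle, hT,
      Subgroup.map_eq_bot_iff_of_injective _ X.subtype_injective] at h1
    exact h1
  obtain ⟨P, hP⟩ := M.sylow_centralizer hs hsz
  have hmem : ∀ {x : ↥X}, x ∈ (P : Subgroup ↥X) ↔ (x : G) ∈ (S : Subgroup G) ⊓ X := fun {x} => by
    rw [hP, mem_subgroupOf]
  have hcore : pCore 2 ↥X = (P : Subgroup ↥X) := by
    refine le_antisymm (Cores.pCore_le_sylow P) fun x hx => ?_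
    refine Solvable.centralizer_pCore_le (Solvable.isPiSeparable_of_isSolvable _) hXcore
      (mem_centralizer_iff.2 fun y hy => Subtype.ext ?_)
    have hy' := hmem.1 (Cores.pCore_le_sylow P hy)
    exact M.shape.abel s hs hsz _ hy'.1 _ (hmem.1 hx).1 (mem_centralizer_singleton_iff.1 y.2)
      (mem_centralizer_singleton_iff.1 x.2)
  haveI hchar2 : (P : Subgroup ↥X).Characteristic := by
    refine characteristic_iff_map_le.2 fun φ => ?_
    rw [← hcore]
    exact (Cores.pCore_map_mulEquiv φ 2).le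
  have hNR : modCent s ≤ normalizer (((P : Subgroup ↥X).map X.subtype : Subgroup G) : Set G) :=
    hXn.trans (Cores.normalizer_le_normalizer_map (hC := hchar2) _)
  have hmap : ∀ y : G, y ∈ (P : Subgroup ↥X).map X.subtype ↔ y ∈ (S : Subgroup G) ⊓ X := fun y => by
    refine ⟨?_, fun hy => ⟨⟨y, hy.2⟩, hmem.2 hy, rfl⟩⟩
    rintro ⟨x, hx, rfl⟩
    exact hmem.1 hx
  intro g hg
  have key : ∀ h ∈ modCent s, ∀ z ∈ zc (S : Subgroup G), h * z * h⁻¹ ∈ zc (S : Subgroup G) := by
    intro h hh z hz
    have h1 := (hmap _).1 ((mem_normalizer_iff.1 (hNR hh) z).1 ((hmap z).2 (Shape.zc_le_centralizer hs hz)))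
    rw [← M.shape.omega _ h1.1, show h * z * h⁻¹ * (h * z * h⁻¹) = h * (z * z) * h⁻¹ by group,
      M.shape.sq_zc hz, mul_one, mul_inv_cancel]
  refine mem_normalizer_iff.2 fun z => ⟨key g hg z, fun h => ?_⟩
  have := key g⁻¹ (inv_mem hg) _ h
  simpa [mul_assoc] using this

omit M in
theorem mem_of_two_element {t : G} (htN : t ∈ normalizer ((S : Subgroup G) : Set G))
    (ht : ∃ k : ℕ, t ^ 2 ^ k = 1) : t ∈ (S : Subgroup G) := by
  haveI : Fact (Nat.Prime 2) := ⟨Nat.prime_two⟩
  obtain ⟨k, hk⟩ := ht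
  set N := normalizer ((S : Subgroup G) : Set G)
  have hp : IsPGroup 2 (zpowers (⟨t, htN⟩ : ↥N)) := by
    obtain ⟨j, -, hj⟩ := (Nat.dvd_prime_pow Nat.prime_two).1 (orderOf_dvd_of_pow_eq_one hk)
    exact IsPGroup.of_card (n := j) (by rw [Nat.card_zpowers, Subgroup.orderOf_mk, hj])
  obtain ⟨P, hP⟩ := hp.exists_le_sylow
  haveI := Sylow.unique_of_normal (S.subtype Subgroup.le_normalizer)
    (Subgroup.normal_in_normalizer (H := (S : Subgroup G)))
  have h1 : P = S.subtype Subgroup.le_normalizer := Subsingleton.elim _ _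
  have h2 := hP (mem_zpowers (⟨t, htN⟩ : ↥N))
  rw [h1] at h2
  exact h2

theorem map_normalizer_ne_top :
    (normalizer ((S : Subgroup G) : Set G)).map proj ≠ ⊤ := fun h => by
  refine M.nn (Subgroup.normalizer_eq_top_iff.1 ?_)
  have hle : Subgroup.center G ≤ normalizer ((S : Subgroup G) : Set G) :=
    (M.center_le.trans inf_le_left).trans Subgroup.le_normalizer
  have := congrArg (Subgroup.comap (proj (G := G))) h
  rwa [Subgroup.comap_map_eq, QuotientGroup.ker_mk', sup_eq_left.2 hle, Subgroup.comap_top] at this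

theorem embedded :
    IsStronglyEmbedded ((normalizer ((S : Subgroup G) : Set G)).map proj) := by
  haveI : Fact (Nat.Prime 2) := ⟨Nat.prime_two⟩
  set N := normalizer ((S : Subgroup G) : Set G) with hNdef
  have hle : Subgroup.center G ≤ N := (M.center_le.trans inf_le_left).trans Subgroup.le_normalizer
  have hlift : ∀ t : G, proj t ∈ N.map proj → t ∈ N := fun t ht => by
    have : t ∈ (N.map proj).comap proj := ht
    rwa [Subgroup.comap_map_eq, QuotientGroup.ker_mk', sup_eq_left.2 hle] at this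
  refine Involution.isStronglyEmbedded_iff_forall.2 ⟨M.map_normalizer_ne_top, ?_, ?_⟩
  · obtain ⟨A, hA, -, -, hAsq, hAcard⟩ := M.exists_elementary
    have hAN : A ≤ N.map proj := hA.trans (map_mono Subgroup.le_normalizer)
    refine even_iff_two_dvd.2 (dvd_trans ?_ (Subgroup.card_dvd_of_le hAN))
    obtain ⟨n, hn, rfl⟩ := M.shape.pow
    rw [hAcard]
    exact dvd_pow_self 2 (by omega)
  intro gb tb htb htM hgM
  obtain ⟨g, rfl⟩ := QuotientGroup.mk'_surjective _ gb
  obtain ⟨t, rfl, ht2, htc⟩ := lifts htb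
  rw [← map_inv, ← map_mul, ← map_mul] at hgM
  have htN := hlift t htM
  have ht'N := hlift _ hgM
  have ht'2 : g * t * g⁻¹ * (g * t * g⁻¹) ∈ Subgroup.center G := by
    rw [show g * t * g⁻¹ * (g * t * g⁻¹) = g * (t * t) * g⁻¹ by group]
    exact Subgroup.Normal.conj_mem inferInstance _ ht2 g
  have htS := mem_of_two_element htN (M.two_element ht2)
  have ht'S := mem_of_two_element ht'N (M.two_element ht'2)
  have ht'c : g * t * g⁻¹ ∉ Subgroup.center G := fun h => htc (by
    have := Subgroup.Normal.conj_mem inferInstance _ h g⁻¹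
    simpa [mul_assoc] using this)
  have hX := M.modCent_le ht'S ht'2 ht'c
  have hgS : ((g • S : Sylow 2 G) : Subgroup G) ≤ N := by
    intro y hy
    rw [Sylow.coe_subgroup_smul, Subgroup.mem_pointwise_smul_iff_inv_smul_mem, MulAut.smul_def,
      ← map_inv, MulAut.conj_apply, inv_inv] at hy
    by_cases hz : zc (S : Subgroup G) ≤ Subgroup.center G
    · refine hX (mem_modCent.2 ?_)
      rw [show ⁅y, g * t * g⁻¹⁆ = g * ⁅g⁻¹ * y * g, t⁆ * g⁻¹ by
        simp only [commutatorElement_def]; group]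
      exact Subgroup.Normal.conj_mem inferInstance _ (hz (M.shape.comm _ hy t htS)) g
    · obtain ⟨a, ha, hac⟩ := SetLike.not_le_iff_exists.1 hz
      have ha'N : g * a * g⁻¹ ∈ N := hX (centralizer_le_modCent _ (mem_centralizer_singleton_iff.2 (by
        calc g * a * g⁻¹ * (g * t * g⁻¹) = g * (a * t) * g⁻¹ := by group
          _ = g * (t * a) * g⁻¹ := by rw [(mem_zc.1 ha).2 t htS]
          _ = g * t * g⁻¹ * (g * a * g⁻¹) := by group)))
      have hsq : g * a * g⁻¹ * (g * a * g⁻¹) = 1 := by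
        rw [show g * a * g⁻¹ * (g * a * g⁻¹) = g * (a * a) * g⁻¹ by group, M.shape.sq_zc ha]; group
      have ha'S : g * a * g⁻¹ ∈ (S : Subgroup G) := mem_of_two_element ha'N ⟨1, by rw [pow_one, pow_two, hsq]⟩
      have ha'z : g * a * g⁻¹ ∈ zc (S : Subgroup G) := (M.shape.omega _ ha'S).1 hsq
      have ha'c : g * a * g⁻¹ ∉ Subgroup.center G := fun h => hac (by
        have := Subgroup.Normal.conj_mem inferInstance _ h g⁻¹
        simpa [mul_assoc] using this)
      refine M.modCent_le ha'S (by rw [hsq]; exact one_mem _) ha'c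
        (centralizer_le_modCent _ (mem_centralizer_singleton_iff.2 ?_))
      calc y * (g * a * g⁻¹) = g * (g⁻¹ * y * g * a) * g⁻¹ := by group
        _ = g * (a * (g⁻¹ * y * g)) * g⁻¹ := by rw [(mem_zc.1 ha).2 _ hy]
        _ = g * a * g⁻¹ * y := by group
  refine ⟨g, ?_, rfl⟩
  haveI := Sylow.unique_of_normal (S.subtype Subgroup.le_normalizer)
    (Subgroup.normal_in_normalizer (H := (S : Subgroup G)))
  have h1 : (g • S).subtype hgS = S.subtype Subgroup.le_normalizer := Subsingleton.elim _ _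
  exact Sylow.smul_eq_iff_mem_normalizer.1 (Sylow.subtype_injective h1)

theorem center_eq_bot : Subgroup.center G = ⊥ := by
  by_contra hne
  obtain ⟨u, hu, hun⟩ := M.shape.exists_not_mem
  have hroot : ∀ c ∈ Subgroup.center G, c ≠ 1 → ∃ w ∈ (S : Subgroup G), w * w = c ∧
      w ∉ Subgroup.center G := fun c hc hc1 => by
    obtain ⟨w, hw, -, hww⟩ := M.shape.exists_sq hu hun (M.center_le hc)
    exact ⟨w, hw, hww, fun h => hc1 (hww ▸ M.sq_center h)⟩
  obtain ⟨x, y, hx2, hxc, hy2, hyc, hxy⟩ : ∃ x y : G, x * x ∈ Subgroup.center G ∧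
      x ∉ Subgroup.center G ∧ y * y ∈ Subgroup.center G ∧ y ∉ Subgroup.center G ∧ x * x ≠ y * y := by
    obtain ⟨c, hc⟩ := (Subgroup.ne_bot_iff_exists_ne_one).1 hne
    obtain ⟨w, -, hww, hwc⟩ := hroot c c.2 fun h => hc (Subtype.ext h)
    by_cases hz : zc (S : Subgroup G) ≤ Subgroup.center G
    · obtain ⟨d, hd, hd1, hdc⟩ : ∃ d ∈ Subgroup.center G, d ≠ 1 ∧ d ≠ c := by
        by_contra! h
        have hsub : (Subgroup.center G : Set G) ⊆ {1, (c : G)} := fun d hd => by
          by_cases hd1 : d = 1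
          · exact Or.inl hd1
          · exact Or.inr (h d hd hd1)
        have h1 := Nat.card_mono (Set.toFinite _) hsub
        have h2 : Nat.card ↥({1, (c : G)} : Set G) ≤ 2 := by
          rw [Nat.card_coe_set_eq]; exact (Set.ncard_insert_le _ _).trans (by simp)
        have h3 := Subgroup.card_le_of_le hz
        rw [M.shape.card_zc] at h3
        have := M.shape.eight_le
        have h4 : Nat.card ↥((Subgroup.center G : Set G)) = Nat.card ↥(Subgroup.center G) := rfl
        omega
      obtain ⟨v, -, hvv, hvc⟩ := hroot d hd hd1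
      exact ⟨w, v, hww ▸ c.2, hwc, hvv ▸ hd, hvc, by rw [hww, hvv]; exact Ne.symm hdc⟩
    · obtain ⟨a, ha, hac⟩ := SetLike.not_le_iff_exists.1 hz
      exact ⟨w, a, hww ▸ c.2, hwc, by rw [M.shape.sq_zc ha]; exact one_mem _, hac, by
        rw [hww, M.shape.sq_zc ha]; exact fun h => hc (Subtype.ext h)⟩
  have hord : ∀ z : G, z * z ∈ Subgroup.center G → z ∉ Subgroup.center G → orderOf (proj z) = 2 :=
    fun z h1 h2 => orderOf_eq_prime (by rw [pow_two, ← map_mul]; exact (QuotientGroup.eq_one_iff _).2 h1)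
      fun h => h2 ((QuotientGroup.eq_one_iff _).1 h)
  obtain ⟨gb, hgb⟩ := isConj_iff.1
    (Involution.isConj_involutions M.embedded (hord x hx2 hxc) (hord y hy2 hyc))
  obtain ⟨g, rfl⟩ := QuotientGroup.mk'_surjective _ gb
  rw [← map_inv, ← map_mul, ← map_mul] at hgb
  have hc := QuotientGroup.eq.1 hgb
  obtain ⟨c, hc, he⟩ : ∃ c ∈ Subgroup.center G, y = g * x * g⁻¹ * c :=
    ⟨_, hc, by rw [mul_inv_cancel_left]⟩
  apply hxy
  have hxx : g * (x * x) * g⁻¹ = x * x := by rw [mem_center_iff.1 hx2 g, mul_inv_cancel_right]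
  rw [he, show g * x * g⁻¹ * c * (g * x * g⁻¹ * c) = g * x * g⁻¹ * (c * (g * x * g⁻¹)) * c by group,
    ← mem_center_iff.1 hc, show g * x * g⁻¹ * (g * x * g⁻¹ * c) * c = g * (x * x) * g⁻¹ * (c * c) by group,
    hxx, M.sq_center hc, mul_one]

end Min

end Cfsg.Agent.U3Type
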