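import Cfsg.Agent.Lib.U3Type.Embedded
import Cfsg.Agent.Lib.Goldschmidt.General.RankFacts.Linear
import Cfsg.Agent.Lib.Goldschmidt.General.RankFacts.Suzuki
import Cfsg.Agent.Lib.Goldschmidt.General.RankFacts.Unitary
import Cfsg.Agent.Lib.Suzuki.LieModel
import Cfsg.Agent.Lib.PSeries.Basic
import Cfsg.Agent.Lib.Unitary.Small32

/-!
# Groups with Sylow 2-subgroups of type `PSU₃(2ⁿ)`, `n ≥ 3` (owner: helper72)

* `socle_equiv` : a simple group with strongly embedded subgroup and this Sylow subgroup is `PSU₃(q)`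
* `main` : with trivial odd core, the Sylow subgroup is normal or there is `PSU₃(q)` of odd index
* `structure_of_sylow` : S3177
-/

set_option autoImplicit false
set_option linter.unusedSectionVars false
set_option linter.style.haveILetI false

namespace Cfsg.Agent.U3Type

open Cfsg Subgroup Cfsg.Agent.Goldschmidt.General
open scoped Pointwise

universe u v

/-- The order of a Sylow 2-subgroup from the order of the group. -/
theorem eq_of_card {L : Type u} [Group L] [Finite L] (T : Sylow 2 L) {j k w : ℕ}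
    (hT : Nat.card ↥(T : Subgroup L) = 2 ^ j) (hL : Nat.card L = 2 ^ k * w) (hw : ¬ 2 ∣ w) : j ≤ k := by
  have h : 2 ^ j ∣ 2 ^ k * w := hL ▸ hT ▸ Subgroup.card_subgroup_dvd_card _
  exact (Nat.pow_dvd_pow_iff_le_right (by norm_num)).1
    ((((Nat.Prime.coprime_iff_not_dvd Nat.prime_two).2 hw).pow_left j).dvd_of_dvd_mul_right h)

/-- A group from the three families with Sylow 2-subgroup of type `PSU₃(q)` is `PSU₃(q)`. -/
theorem socle_equiv {L : Type u} [Group L] [Finite L] (T : Sylow 2 L) {q : ℕ}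
    (hT : Shape (T : Subgroup L) q) {F : Type v} [Field F] [Fintype F] (hF : Fintype.card F = q ^ 2)
    (hL : (∃ (F : Type) (_ : Field F) (_ : Fintype F), (∃ n : ℕ, 2 ≤ n ∧ Fintype.card F = 2 ^ n) ∧
          Nonempty (L ≃* Matrix.ProjectiveSpecialLinearGroup (Fin 2) F)) ∨
        Cfsg.Lie.IsoSuzuki L ∨
        (∃ (F : Type) (_ : Field F) (_ : Fintype F) (n : ℕ), 2 ≤ n ∧ Fintype.card F = (2 ^ n) ^ 2 ∧
          Nonempty (L ≃* Cfsg.PSU 3 F (2 ^ n)))) :
    Nonempty (L ≃* Cfsg.PSU 3 F q) := by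
  obtain ⟨n, hn, rfl⟩ := hT.pow
  have hcT : Nat.card ↥(T : Subgroup L) = 2 ^ (n * 3) := by rw [hT.card, pow_mul]
  rcases hL with ⟨K, _, _, ⟨k, hk, hK⟩, ⟨e⟩⟩ | ⟨K, _, _, m, hm, hK, ⟨e⟩⟩ | ⟨K, _, _, k, hk, hK, ⟨e⟩⟩
  · exfalso
    haveI := PSL2.isSimpleGroup_psl (L := K) (by
      rw [Nat.card_eq_fintype_card, hK]
      exact le_trans (by norm_num : 4 ≤ 2 ^ 2) (Nat.pow_le_pow_right (by norm_num) hk))
    haveI : IsSimpleGroup L := e.isSimpleGroup_congr.2 inferInstance
    obtain ⟨e'⟩ := Rank.pgl_equiv_psl (n := k) (by omega) hK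
    have hc := (Rank.rankFacts_of_equiv (Rank.model_pgl hk hK) (e.trans e')).card_centre T
    rw [show Nat.card ↥(centre (T : Subgroup L)) = Nat.card ↥(zc (T : Subgroup L)) from rfl,
      hT.card_zc] at hc
    obtain rfl : n = k := Nat.pow_right_injective (by norm_num) hc
    have hcard : Nat.card L = 2 ^ n * ((2 ^ n + 1) * (2 ^ n - 1)) := by
      have h := PSL2.card_psl_mul (F := K)
      rw [Nat.card_eq_fintype_card (α := K), hK,
        Nat.coprime_iff_gcd_eq_one.1 (Nat.coprime_two_left.2 (Nat.Even.sub_odd Nat.one_le_two_pow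
          ((Nat.even_pow' (by omega)).2 even_two) odd_one)), one_mul] at h
      rw [Nat.card_congr e.toEquiv]
      exact h
    have he : Even (2 ^ n) := (Nat.even_pow' (by omega)).2 even_two
    have h1 : ¬ 2 ∣ (2 ^ n + 1) * (2 ^ n - 1) := by
      have := even_iff_two_dvd.1 he
      have := Nat.two_pow_pos n
      intro h
      rcases (Nat.Prime.dvd_mul Nat.prime_two).1 h with h | h <;> omega
    have := eq_of_card T hcT hcard h1
    omega
  · exfalso
    haveI := Suzuki.isSimpleGroup_sz (F := K) hm hK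
    set e1 := e.trans (Suzuki.lieEquiv (F := K) hm hK).symm
    haveI : IsSimpleGroup L := e1.isSimpleGroup_congr.2 inferInstance
    have hc := (Rank.rankFacts_of_equiv (Rank.model_sz hm hK) e1).card_centre T
    rw [show Nat.card ↥(centre (T : Subgroup L)) = Nat.card ↥(zc (T : Subgroup L)) from rfl,
      hT.card_zc] at hc
    obtain rfl : n = 2 * m + 1 := Nat.pow_right_injective (by norm_num) hc
    have hcard : Nat.card L = 2 ^ ((2 * m + 1) * 2) * (((2 ^ (2 * m + 1)) ^ 2 + 1) * (2 ^ (2 * m + 1) - 1)) := by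
      rw [Nat.card_congr e1.toEquiv, Suzuki.card_sz hm hK, pow_mul, mul_assoc]
    have he : Even (2 ^ (2 * m + 1)) := (Nat.even_pow' (by omega)).2 even_two
    have h1 : ¬ 2 ∣ ((2 ^ (2 * m + 1)) ^ 2 + 1) * (2 ^ (2 * m + 1) - 1) := by
      have := even_iff_two_dvd.1 he
      have := even_iff_two_dvd.1 ((Nat.even_pow' (two_ne_zero)).2 he)
      have := Nat.two_pow_pos (2 * m + 1)
      intro h
      rcases (Nat.Prime.dvd_mul Nat.prime_two).1 h with h | h <;> omega
    have := eq_of_card T hcT hcard h1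
    omega
  · haveI : IsSimpleGroup (Cfsg.PSU 3 K (2 ^ k)) := Unitary.isSimpleGroup_PSU (n := 3) hK
      (Or.inr ⟨rfl, le_trans (by norm_num : 3 ≤ 2 ^ 2) (Nat.pow_le_pow_right (by norm_num) hk)⟩)
    haveI : IsSimpleGroup L := e.isSimpleGroup_congr.2 inferInstance
    have hc := (Rank.rankFacts_of_equiv (Rank.model_psu hk hK).1 e).card_centre T
    rw [show Nat.card ↥(centre (T : Subgroup L)) = Nat.card ↥(zc (T : Subgroup L)) from rfl,
      hT.card_zc] at hc
    obtain rfl : n = k := Nat.pow_right_injective (by norm_num) hc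
    exact ⟨e.trans (Unitary.psuMapEquiv (FiniteField.ringEquivOfCardEq (hK.trans hF.symm)) 3 (2 ^ n))⟩

/-- A group with a normal Sylow 2-subgroup modulo an odd core is soluble. -/
theorem solvable_of_normal_sylow {Y : Type u} [Group Y] [Finite Y] (T : Sylow 2 Y)
    (h : (T : Subgroup Y).Normal) : Group.IsSolvable Y := by
  haveI : Fact (Nat.Prime 2) := ⟨Nat.prime_two⟩
  haveI := h
  haveI : Group.IsNilpotent (T : Subgroup Y) := T.isPGroup'.isNilpotent
  haveI : Group.IsSolvable (Y ⧸ (T : Subgroup Y)) := OddOrderTheorem.solvable (by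
    rw [← index_eq_card]
    exact Nat.not_even_iff_odd.1 fun he => T.not_dvd_index (even_iff_two_dvd.1 he))
  exact Group.isSolvable_of_ker_le_range (T : Subgroup Y).subtype (QuotientGroup.mk' (T : Subgroup Y))
    (by rw [QuotientGroup.ker_mk', range_subtype])

/-- A 2-subgroup lies in a normal subgroup of odd index. -/
theorem le_of_odd_index {Y : Type u} [Group Y] [Finite Y] {L P : Subgroup Y} [L.Normal]
    (hL : Odd L.index) (hP : IsPGroup 2 ↥P) : P ≤ L := fun x hx => by
  obtain ⟨k, hk⟩ := hP ⟨x, hx⟩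
  have hk' : x ^ 2 ^ k = 1 := congrArg Subtype.val hk
  refine (QuotientGroup.eq_one_iff x).1 (orderOf_eq_one_iff.1 (Nat.eq_one_of_dvd_coprimes
    ((Nat.coprime_two_left.2 hL).pow_left k) (orderOf_dvd_of_pow_eq_one ?_) (orderOf_dvd_natCard _)))
  rw [← QuotientGroup.mk_pow, hk', QuotientGroup.mk_one]

/-- The structure with trivial odd core. -/
theorem main {F : Type v} [Field F] [Fintype F] {q : ℕ} (hF : Fintype.card F = q ^ 2) :
    ∀ N : ℕ, ∀ (G : Type u) [Group G] [Finite G] (S : Sylow 2 G), Nat.card G = N →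
      Shape (S : Subgroup G) q → pPrimeCore 2 G = ⊥ →
      (S : Subgroup G).Normal ∨
        ∃ L : Subgroup G, L.Normal ∧ Odd L.index ∧ Nonempty (↥L ≃* Cfsg.PSU 3 F q) := by
  intro N
  induction N using Nat.strong_induction_on with
  | _ N ih =>
  intro G _ _ S hN hS hO
  haveI : Fact (Nat.Prime 2) := ⟨Nat.prime_two⟩
  by_cases hn : (S : Subgroup G).Normal
  · exact Or.inl hn
  right
  have M : Min G S q := ⟨hS, hO, hn, fun X hX hSX z hz hz1 hXz => by
    haveI hOn : (pPrimeCore 2 ↥X).Normal := Cores.pPrimeCore_normal 2 _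
    set π := QuotientGroup.mk' (pPrimeCore 2 ↥X)
    have hOodd := Cores.coprime_card_pPrimeCore (G := ↥X) 2
    have hXS : Shape ((S.subtype hSX : Sylow 2 ↥X) : Subgroup ↥X) q :=
      shape_of_uType (hS.uType.congr (Subgroup.subgroupOfEquivOfLe hSX).symm)
    set SX := S.subtype hSX
    have hinj : ∀ x ∈ (SX : Subgroup ↥X), π x = 1 → x = 1 := fun x hx h1 => by
      obtain ⟨k, hk⟩ := IsPGroup.iff_orderOf.1 SX.isPGroup' ⟨x, hx⟩
      rw [Subgroup.orderOf_mk] at hk
      exact orderOf_eq_one_iff.1 (Nat.eq_one_of_dvd_coprimes (hOodd.pow_right k).symm (dvd_of_eq hk)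
        (orderOf_dvd_natCard _ ((QuotientGroup.eq_one_iff x).1 h1)))
    let SB : Sylow 2 (↥X ⧸ pPrimeCore 2 ↥X) := SX.mapSurjective (QuotientGroup.mk'_surjective _)
    have hlt : Nat.card (↥X ⧸ pPrimeCore 2 ↥X) < N := by
      refine lt_of_le_of_lt (Nat.card_le_card_of_surjective π (QuotientGroup.mk'_surjective _)) ?_
      rw [← hN]
      exact lt_of_le_of_ne (Subgroup.card_le_card_group X) fun e => hX (Subgroup.eq_top_of_card_eq X e)
    rcases ih _ hlt _ SB rfl (hXS.map π hinj) (Cores.pPrimeCore_quotient_self 2) with h | ⟨L, hLn, hLi, ⟨e⟩⟩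
    · haveI := solvable_of_normal_sylow SB h
      haveI : Group.IsSolvable ↥(pPrimeCore 2 ↥X) :=
        OddOrderTheorem.solvable (Nat.coprime_two_right.1 hOodd)
      exact Group.isSolvable_of_ker_le_range (pPrimeCore 2 ↥X).subtype π
        (by rw [QuotientGroup.ker_mk', range_subtype])
    · exfalso
      haveI := hLn
      haveI : IsSimpleGroup (Cfsg.PSU 3 F q) := Unitary.isSimpleGroup_PSU (n := 3) hF
        (Or.inr ⟨rfl, by have := hS.eight_le; omega⟩)
      haveI : IsSimpleGroup ↥L := e.isSimpleGroup_congr.2 inferInstance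
      have hsh := hXS.map π hinj
      have hSL : (SB : Subgroup _) ≤ L := le_of_odd_index hLi SB.isPGroup'
      have hzX : (⟨z, hSX hz.1⟩ : ↥X) ∈ Subgroup.center ↥X := mem_center_iff.2 fun g =>
        Subtype.ext (mem_centralizer_singleton_iff.1 (hXz g.2))
      set zb := π ⟨z, hSX hz.1⟩
      have hzbL : zb ∈ L := hSL ⟨_, hz.1, rfl⟩
      have hcen : (⟨zb, hzbL⟩ : ↥L) ∈ Subgroup.center ↥L := mem_center_iff.2 fun g => Subtype.ext (by
        obtain ⟨g', hg'⟩ := QuotientGroup.mk'_surjective _ (g : ↥X ⧸ pPrimeCore 2 ↥X)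
        show (g : ↥X ⧸ pPrimeCore 2 ↥X) * zb = zb * g
        rw [← hg', ← map_mul, ← map_mul, mem_center_iff.1 hzX g'])
      rcases (inferInstance : (Subgroup.center ↥L).Normal).eq_bot_or_eq_top with hb | ht
      · rw [hb, mem_bot] at hcen
        exact hz1 (congrArg Subtype.val (hinj ⟨z, hSX hz.1⟩ hz.1 (congrArg Subtype.val hcen)))
      · obtain ⟨u, hu, hun⟩ := hsh.exists_not_mem
        exact hun (mem_zc.2 ⟨hu, fun y hy => congrArg Subtype.val
          (mem_center_iff.1 (ht.ge (mem_top (⟨u, hSL hu⟩ : ↥L))) ⟨y, hSL hy⟩)⟩)⟩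
  have hbot := M.center_eq_bot
  set H := (normalizer ((S : Subgroup G) : Set G)).map (proj (G := G))
  have h2 : SuzukiRankOne.TwoInvolutions (G ⧸ Subgroup.center G) := by
    obtain ⟨A, -, -, hAc, hAsq, hAcard⟩ := M.exists_elementary
    refine Bender.twoInvolutions_of_rank ⟨A, hAc, fun a ha => by rw [pow_two]; exact hAsq a ha, ?_⟩
    rw [hAcard]
    have := M.shape.eight_le
    omega
  have hcore : H.normalCore = ⊥ :=
    (Bender.core_eq_of_two_involutions M.embedded h2).trans M.quot_core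
  obtain ⟨t, Q, hset⟩ := Bender.rankOneHalf _ H M.embedded hcore h2
  haveI := Bender.faithful_of_normalCore hcore
  obtain ⟨L, hLn, hLi, hL⟩ :=
    SuzukiRankOne.classify SuzukiRankOne.kernelShape SuzukiRankOne.Suzuki.suzukiShape hset h2
  haveI := hLn
  have hinj : ∀ x ∈ (S : Subgroup G), (proj (G := G)) x = 1 → x = 1 := fun x _ hx => by
    have := (QuotientGroup.eq_one_iff x).1 hx
    rwa [hbot, mem_bot] at this
  let SB : Sylow 2 (G ⧸ Subgroup.center G) := S.mapSurjective (QuotientGroup.mk'_surjective _)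
  have hsh : Shape (SB : Subgroup (G ⧸ Subgroup.center G)) q := hS.map (proj (G := G)) hinj
  have hSL : (SB : Subgroup _) ≤ L := le_of_odd_index hLi SB.isPGroup'
  obtain ⟨e⟩ := socle_equiv (SB.subtype hSL)
    (shape_of_uType (hsh.uType.congr (Subgroup.subgroupOfEquivOfLe hSL).symm)) hF hL
  have hb : Function.Bijective (proj (G := G)) :=
    ⟨(MonoidHom.ker_eq_bot_iff _).1 (by rw [QuotientGroup.ker_mk', hbot]), QuotientGroup.mk'_surjective _⟩
  refine ⟨L.comap proj, inferInstance, ?_, ⟨(MulEquiv.ofBijective ((proj (G := G)).subgroupComap L)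
    ⟨fun a b h => Subtype.ext (hb.1 (congrArg Subtype.val h)),
      MonoidHom.subgroupComap_surjective_of_surjective _ L hb.2⟩).trans e⟩⟩
  rwa [Subgroup.index_comap_of_surjective L hb.2]

/-- S3177. -/
theorem structure_of_sylow {G : Type u} [Group G] [Finite G] {n : ℕ} (hn : 3 ≤ n) {F : Type v} [Field F]
    [Fintype F] (hF : Fintype.card F = 4 ^ n) (S : Sylow 2 G) (P : Sylow 2 (Cfsg.PSU 3 F (2 ^ n)))
    (e : ↥(S : Subgroup G) ≃* ↥(P : Subgroup (Cfsg.PSU 3 F (2 ^ n)))) :
    (Group.IsSolvable G ∧ Cfsg.PLengthLE 2 1 G) ∨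
      ∃ N : Subgroup (G ⧸ Cfsg.oddCore G), N.Normal ∧ Odd N.index ∧
        Nonempty (↥N ≃* Cfsg.PSU 3 F (2 ^ n)) := by
  haveI : Fact (Nat.Prime 2) := ⟨Nat.prime_two⟩
  have hF2 : Fintype.card F = (2 ^ n) ^ 2 := by
    rw [hF, ← pow_mul, mul_comm, pow_mul]; norm_num
  have h2 : (2 : F) = 0 := by
    have h0 : ((2 : ℕ) : F) ^ (n * 2) = 0 := by
      rw [← Nat.cast_pow, pow_mul, ← hF2]; exact FiniteField.cast_card_eq_zero F
    exact_mod_cast eq_zero_of_pow_eq_zero h0
  obtain ⟨e'⟩ := Unitary.exists_equiv (q := 2 ^ n) (by omega) rfl hF2 h2 P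
  have hS : Shape (S : Subgroup G) (2 ^ n) :=
    shape_of_uType ((uType_sylThree hn rfl).congr (e'.trans e.symm))
  haveI : (Cfsg.oddCore G).Normal := Cores.pPrimeCore_normal 2 G
  set O := Cfsg.oddCore G
  have hOodd : Nat.Coprime (Nat.card ↥O) 2 := Cores.coprime_card_pPrimeCore (G := G) 2
  set π := QuotientGroup.mk' O
  have hinj : ∀ x ∈ (S : Subgroup G), π x = 1 → x = 1 := fun x hx h1 => by
    obtain ⟨k, hk⟩ := IsPGroup.iff_orderOf.1 S.isPGroup' ⟨x, hx⟩
    rw [Subgroup.orderOf_mk] at hk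
    exact orderOf_eq_one_iff.1 (Nat.eq_one_of_dvd_coprimes (hOodd.pow_right k).symm (dvd_of_eq hk)
      (orderOf_dvd_natCard _ ((QuotientGroup.eq_one_iff x).1 h1)))
  let SB : Sylow 2 (G ⧸ O) := S.mapSurjective (QuotientGroup.mk'_surjective _)
  rcases main hF2 _ (G ⧸ O) SB rfl (hS.map π hinj) (Cores.pPrimeCore_quotient_self 2) with h | h
  swap
  · exact Or.inr h
  left
  haveI := solvable_of_normal_sylow SB h
  haveI : Group.IsSolvable ↥O := OddOrderTheorem.solvable (Nat.coprime_two_right.1 hOodd)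
  refine ⟨Group.isSolvable_of_ker_le_range O.subtype π (by rw [QuotientGroup.ker_mk', range_subtype]), ?_⟩
  haveI : (Cfsg.pPrimePCore 2 G).Normal := HallHigman.pPrimePCore_normal 2 G
  have hP : Cfsg.pPrimePCore 2 G = (SB : Subgroup (G ⧸ O)).comap π := by
    show (pCore 2 (G ⧸ O)).comap π = _
    haveI := h
    rw [Cores.pCore_eq_sylow SB]
  show (Cfsg.upperPSeries 2 G (2 * 1 + 1)).1 = ⊤
  rw [PSeries.upperPSeries_succ_even (p := 2) (show Even (2 * 1) by simp)
    (QuotientGroup.mk' (Cfsg.pPrimePCore 2 G)) (QuotientGroup.mk'_surjective _)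
    (by rw [QuotientGroup.ker_mk', PSeries.upperPSeries_two])]
  refine eq_top_iff.2 fun g _ => Cores.le_pPrimeCore (N := (⊤ : Subgroup _)) inferInstance ?_ (mem_top _)
  rw [Subgroup.card_top, ← index_eq_card, hP, Subgroup.index_comap_of_surjective _ (QuotientGroup.mk'_surjective _)]
  exact ((Nat.Prime.coprime_iff_not_dvd Nat.prime_two).2 SB.not_dvd_index).symm

end Cfsg.Agent.U3Type
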