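import Cfsg.Agent.Lib.U3Type.Solvable
import Cfsg.Agent.Lib.U3Type.AbelianCent
import Cfsg.Agent.Lib.HalfClasses.Induct

/-!
# The minimal counterexample for Sylow 2-subgroups of type `PSU₃(q)` (owner: helper72)

* `Min G S q` : no odd core, the Sylow subgroup is not normal, and proper overgroups of it centralising
  an involution are soluble
* `Min.center_le`, `Min.cent_solvable`, `Min.centralizer_solvable` : the centralisers
* `proj`, `lifts` : the projection to `G ⧸ Z(G)`; `Min.quot_cent_solvable`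
-/

set_option autoImplicit false
set_option linter.unusedSectionVars false
set_option linter.style.haveILetI false

namespace Cfsg.Agent.U3Type

open Cfsg Subgroup
open scoped Pointwise commutatorElement

universe u

/-- The minimal configuration. -/
structure Min (G : Type u) [Group G] [Finite G] (S : Sylow 2 G) (q : ℕ) : Prop where
  shape : Shape (S : Subgroup G) q
  core : pPrimeCore 2 G = ⊥
  nn : ¬ (S : Subgroup G).Normal
  ih : ∀ X : Subgroup G, X ≠ ⊤ → (S : Subgroup G) ≤ X → ∀ z ∈ zc (S : Subgroup G), z ≠ 1 →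
    X ≤ centralizer ({z} : Set G) → Group.IsSolvable ↥X

variable {G : Type u} [Group G]

/-- The projection modulo the centre. -/
abbrev proj : G →* G ⧸ Subgroup.center G := QuotientGroup.mk' (Subgroup.center G)

/-- The preimage of the centraliser of the image of `t`. -/
abbrev modCent (t : G) : Subgroup G := (centralizer ({proj t} : Set (G ⧸ Subgroup.center G))).comap proj

theorem mem_modCent {t g : G} : g ∈ modCent t ↔ ⁅g, t⁆ ∈ Subgroup.center G := by
  rw [mem_comap, mem_centralizer_singleton_iff, ← commutatorElement_eq_one_iff_mul_comm,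
    ← map_commutatorElement]
  exact QuotientGroup.eq_one_iff _

theorem centralizer_le_modCent (t : G) : centralizer ({t} : Set G) ≤ modCent t := fun g hg => by
  rw [mem_modCent, commutatorElement_eq_one_iff_mul_comm.2 (mem_centralizer_singleton_iff.1 hg)]
  exact one_mem _

/-- The commutator with `t` is a homomorphism into the centre on `modCent t`. -/
def commHom (t : G) : ↥(modCent t) →* ↥(Subgroup.center G) where
  toFun g := ⟨⁅(g : G), t⁆, mem_modCent.1 g.2⟩
  map_one' := Subtype.ext (commutatorElement_one_left t)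
  map_mul' g g' := Subtype.ext (by
    show ⁅(g : G) * g', t⁆ = ⁅(g : G), t⁆ * ⁅(g' : G), t⁆
    rw [show ⁅(g : G) * g', t⁆ = g * ⁅(g' : G), t⁆ * (g : G)⁻¹ * ⁅(g : G), t⁆ by
        simp only [commutatorElement_def]; group,
      mem_center_iff.1 (mem_modCent.1 g'.2) (g : G), mul_inv_cancel_right]
    exact mem_center_iff.1 (mem_modCent.1 g.2) _)

theorem solvable_modCent {t : G} (h : Group.IsSolvable ↥(centralizer ({t} : Set G))) :
    Group.IsSolvable ↥(modCent t) := by
  haveI := h
  haveI : Group.IsSolvable ↥(Subgroup.center G) :=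
    Group.isSolvable_of_comm fun a b => Subtype.ext (mem_center_iff.1 b.2 a)
  refine Group.isSolvable_of_ker_le_range (Subgroup.inclusion (centralizer_le_modCent t)) (commHom t)
    fun g hg => ?_
  have h1 : ⁅(g : G), t⁆ = 1 := congrArg Subtype.val hg
  exact ⟨⟨g, mem_centralizer_singleton_iff.2 (commutatorElement_eq_one_iff_mul_comm.1 h1)⟩, rfl⟩

/-- Conjugation preserves solubility of centralisers. -/
theorem solvable_centralizer_conj {H : Type u} [Group H] {t : H} (g : H)
    (h : Group.IsSolvable ↥(centralizer ({g * t * g⁻¹} : Set H))) :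
    Group.IsSolvable ↥(centralizer ({t} : Set H)) := by
  haveI := h
  let f : ↥(centralizer ({t} : Set H)) →* ↥(centralizer ({g * t * g⁻¹} : Set H)) :=
    ((MulAut.conj g).toMonoidHom.comp (centralizer ({t} : Set H)).subtype).codRestrict _ fun x =>
      mem_centralizer_singleton_iff.2 (by
        show g * x * g⁻¹ * (g * t * g⁻¹) = g * t * g⁻¹ * (g * x * g⁻¹)
        calc g * x * g⁻¹ * (g * t * g⁻¹) = g * ((x : H) * t) * g⁻¹ := by group
          _ = g * (t * (x : H)) * g⁻¹ := by rw [mem_centralizer_singleton_iff.1 x.2]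
          _ = g * t * g⁻¹ * (g * x * g⁻¹) := by group)
  refine Group.isSolvable_of_isSolvable_injective (f := f) fun a b hab => Subtype.ext ?_
  exact (MulAut.conj g).injective
    (congrArg (fun z : ↥(centralizer ({g * t * g⁻¹} : Set H)) => (z : H)) hab)

namespace Min

variable [Finite G] {S : Sylow 2 G} {q : ℕ} (M : Min G S q)
include M

theorem center_le : Subgroup.center G ≤ zc (S : Subgroup G) := by
  haveI : Fact (Nat.Prime 2) := ⟨Nat.prime_two⟩
  have h := (Cores.le_pCore inferInstance (HalfClasses.isPGroup_center M.core)).trans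
    (Cores.pCore_le_sylow S)
  exact fun z hz => mem_zc.2 ⟨h hz, fun y _ => mem_center_iff.1 hz y⟩

theorem sq_center {z : G} (hz : z ∈ Subgroup.center G) : z * z = 1 := M.shape.sq_zc (M.center_le hz)

theorem cent_solvable {a : G} (ha : a ∈ zc (S : Subgroup G)) (hac : a ∉ Subgroup.center G) :
    Group.IsSolvable ↥(centralizer ({a} : Set G)) :=
  M.ih _ (fun h => hac (mem_center_iff.2 fun g =>
      mem_centralizer_singleton_iff.1 (h.ge (mem_top g))))
    (fun s hs => mem_centralizer_singleton_iff.2 ((mem_zc.1 ha).2 s hs)) a ha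
    (fun h => hac (h ▸ one_mem _)) le_rfl

omit M in
/-- A 2-element lies in a conjugate of `S`. -/
theorem exists_conj_mem (S : Sylow 2 G) {t : G} (ht : ∃ k : ℕ, t ^ 2 ^ k = 1) :
    ∃ g : G, g * t * g⁻¹ ∈ (S : Subgroup G) := by
  haveI : Fact (Nat.Prime 2) := ⟨Nat.prime_two⟩
  obtain ⟨k, hk⟩ := ht
  have hp : IsPGroup 2 (zpowers t) := by
    obtain ⟨j, -, hj⟩ := (Nat.dvd_prime_pow Nat.prime_two).1 (orderOf_dvd_of_pow_eq_one hk)
    exact IsPGroup.of_card (n := j) (by rw [Nat.card_zpowers, hj])
  obtain ⟨Q, hQ⟩ := hp.exists_le_sylow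
  obtain ⟨g, hg⟩ := MulAction.exists_smul_eq G Q S
  refine ⟨g, ?_⟩
  rw [← hg, Sylow.coe_subgroup_smul, Subgroup.mem_pointwise_smul_iff_inv_smul_mem]
  simpa [MulAut.smul_def, mul_assoc] using hQ (mem_zpowers t)

theorem two_element {t : G} (ht : t * t ∈ Subgroup.center G) : ∃ k : ℕ, t ^ 2 ^ k = 1 := by
  refine ⟨2, ?_⟩
  rw [show t ^ 2 ^ 2 = t * t * (t * t) by rw [show (2 : ℕ) ^ 2 = 4 by norm_num]; simp [pow_succ, mul_assoc]]
  exact M.sq_center ht

/-- `S ∩ C(u)` is a Sylow subgroup of `C(u)`. -/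
theorem sylow_centralizer {u : G} (hu : u ∈ (S : Subgroup G)) (hun : u ∉ zc (S : Subgroup G)) :
    ∃ P : Sylow 2 ↥(centralizer ({u} : Set G)),
      (P : Subgroup ↥(centralizer ({u} : Set G))) =
        ((S : Subgroup G) ⊓ centralizer ({u} : Set G)).subgroupOf (centralizer ({u} : Set G)) := by
  haveI : Fact (Nat.Prime 2) := ⟨Nat.prime_two⟩
  set X := centralizer ({u} : Set G)
  set R := (S : Subgroup G) ⊓ X with hR
  obtain ⟨P, hP⟩ := ((S.isPGroup'.to_le inf_le_left : IsPGroup 2 ↥R).of_equiv
    (Subgroup.subgroupOfEquivOfLe inf_le_right).symm).exists_le_sylow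
  refine ⟨P, (eq_of_le_of_card_ge hP ?_).symm⟩
  rw [Nat.card_congr (Subgroup.subgroupOfEquivOfLe (inf_le_right : (S : Subgroup G) ⊓ X ≤ X)).toEquiv,
    M.shape.card_centralizer hu hun, ← Subgroup.card_map_of_injective X.subtype_injective]
  obtain ⟨Q, hQ⟩ := (P.isPGroup'.map X.subtype).exists_le_sylow
  have huP : u ∈ (P : Subgroup ↥X).map X.subtype :=
    ⟨⟨u, mem_centralizer_singleton_iff.2 rfl⟩, hP (mem_subgroupOf.2 ⟨hu, mem_centralizer_singleton_iff.2 rfl⟩), rfl⟩
  obtain ⟨g, hg⟩ := MulAction.exists_smul_eq G S Q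
  have hQshape : Shape (Q : Subgroup G) q := by
    rw [← hg, Sylow.coe_subgroup_smul]
    exact M.shape.map (MulAut.conj g).toMonoidHom fun x _ hx => (MulAut.conj g).injective (hx.trans (map_one (MulAut.conj g)).symm)
  have huQ : u ∉ zc (Q : Subgroup G) := fun h =>
    hun ((M.shape.omega u hu).1 ((hQshape.omega u (hQ huP)).2 h))
  refine (Subgroup.card_le_of_le ?_).trans (le_of_eq (hQshape.card_centralizer (hQ huP) huQ))
  rintro _ ⟨x, hx, rfl⟩
  exact ⟨hQ ⟨x, hx, rfl⟩, x.2⟩

theorem centralizer_solvable {u : G} (hu : u ∈ (S : Subgroup G)) (hun : u ∉ zc (S : Subgroup G)) :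
    Group.IsSolvable ↥(centralizer ({u} : Set G)) := by
  haveI : Fact (Nat.Prime 2) := ⟨Nat.prime_two⟩
  set X := centralizer ({u} : Set G)
  obtain ⟨P, hP⟩ := M.sylow_centralizer hu hun
  have hmem : ∀ {x : ↥X}, x ∈ P ↔ (x : G) ∈ (S : Subgroup G) ⊓ centralizer ({u} : Set G) := fun {x} => by
    show x ∈ (P : Subgroup ↥X) ↔ _
    rw [hP, mem_subgroupOf]
  refine solvable_of_abelian_sylow P ⟨⟨fun a b => Subtype.ext (Subtype.ext ?_)⟩⟩ (fun z hz hz2 => ?_)
    fun t ht htc => ?_
  · exact M.shape.abel u hu hun _ (hmem.1 a.2).1 _ (hmem.1 b.2).1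
      (mem_centralizer_singleton_iff.1 (a : ↥X).2) (mem_centralizer_singleton_iff.1 (b : ↥X).2)
  · have hzS := (hmem.1 hz).1
    obtain ⟨w, hw, hwu, hww⟩ := M.shape.exists_sq hu hun
      ((M.shape.omega _ hzS).1 (congrArg Subtype.val hz2))
    exact ⟨⟨w, mem_centralizer_singleton_iff.2 hwu⟩, hmem.2 ⟨hw, mem_centralizer_singleton_iff.2 hwu⟩,
      Subtype.ext hww⟩
  · have ht2 : (t : G) * t = 1 := by
      have h := pow_orderOf_eq_one t
      rw [ht, pow_two] at h
      exact congrArg Subtype.val h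
    obtain ⟨g, hg⟩ := exists_conj_mem S (t := (t : G)) ⟨1, by rw [pow_one, pow_two, ht2]⟩
    have hz : g * t * g⁻¹ ∈ zc (S : Subgroup G) := (M.shape.omega _ hg).1 (by
      rw [show g * (t : G) * g⁻¹ * (g * t * g⁻¹) = g * ((t : G) * t) * g⁻¹ by group, ht2]; group)
    haveI := solvable_centralizer_conj g (M.cent_solvable hz fun hc => htc (mem_center_iff.2 fun y => by
      have htc' : (t : G) ∈ Subgroup.center G := by
        have := Subgroup.Normal.conj_mem inferInstance _ hc g⁻¹
        simpa [mul_assoc] using this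
      exact Subtype.ext (mem_center_iff.1 htc' y)))
    let f : ↥(centralizer ({t} : Set ↥X)) →* ↥(centralizer ({(t : G)} : Set G)) :=
      (X.subtype.comp (centralizer ({t} : Set ↥X)).subtype).codRestrict _ fun x =>
        mem_centralizer_singleton_iff.2 (congrArg Subtype.val (mem_centralizer_singleton_iff.1 x.2))
    refine Group.isSolvable_of_isSolvable_injective (f := f) fun a b hab => ?_
    exact Subtype.ext (Subtype.ext
      (congrArg (fun z : ↥(centralizer ({(t : G)} : Set G)) => (z : G)) hab))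

theorem modCent_solvable {s : G} (hs : s ∈ (S : Subgroup G)) (hsc : s ∉ Subgroup.center G) :
    Group.IsSolvable ↥(modCent s) := by
  by_cases hz : s ∈ zc (S : Subgroup G)
  · exact solvable_modCent (M.cent_solvable hz hsc)
  · exact solvable_modCent (M.centralizer_solvable hs hz)

omit M in
theorem lifts {x : G ⧸ Subgroup.center G} (hx : orderOf x = 2) :
    ∃ t : G, proj t = x ∧ t * t ∈ Subgroup.center G ∧ t ∉ Subgroup.center G := by
  obtain ⟨t, rfl⟩ := QuotientGroup.mk'_surjective _ x
  refine ⟨t, rfl, (QuotientGroup.eq_one_iff _).1 ?_, fun h => ?_⟩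
  · have := pow_orderOf_eq_one (proj t)
    rw [hx, pow_two, ← map_mul] at this
    exact this
  · rw [show proj t = 1 from (QuotientGroup.eq_one_iff _).2 h, orderOf_one] at hx
    omega

theorem quot_cent_solvable {x : G ⧸ Subgroup.center G} (hx : orderOf x = 2) :
    Group.IsSolvable ↥(centralizer ({x} : Set (G ⧸ Subgroup.center G))) := by
  obtain ⟨t, rfl, ht2, htc⟩ := lifts hx
  obtain ⟨g, hg⟩ := exists_conj_mem S (M.two_element ht2)
  refine solvable_centralizer_conj (proj g) ?_
  rw [← map_inv, ← map_mul, ← map_mul]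
  haveI := M.modCent_solvable hg fun hc => htc (by
    have := Subgroup.Normal.conj_mem inferInstance _ hc g⁻¹
    simpa [mul_assoc] using this)
  exact Group.isSolvable_of_surjective (f := proj.subgroupComap _)
    (MonoidHom.subgroupComap_surjective_of_surjective _ _ (QuotientGroup.mk'_surjective _))

end Min

end Cfsg.Agent.U3Type
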