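import Cfsg.Agent.Lib.Unitary.SylowThree
import Cfsg.Agent.Lib.Goldschmidt.Facts.UnitarySylow
import Cfsg.Agent.EqLemmas

/-!
# 2-groups of type `PSU₃(q)`, `q` even (owner: helper72)

* `UType P q` : what is used of a Sylow 2-subgroup of `PSU₃(q)`; `uType_sylThree`, `UType.congr`
* `zc S` : the centre of a subgroup inside the ambient group
* `Shape S q` : `UType` read inside the ambient group; `shape_of_uType`, `Shape.map`
* `Shape.exists_sq`, `Shape.card_centralizer`, `Shape.eq_of_le`, `Shape.ne_zc` : consequences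
-/

set_option autoImplicit false
set_option linter.unusedSectionVars false
set_option linter.style.haveILetI false

namespace Cfsg.Agent.U3Type

open Cfsg Subgroup
open scoped commutatorElement

universe u v

/-- The centre of a subgroup, inside the ambient group. -/
abbrev zc {G : Type u} [Group G] (S : Subgroup G) : Subgroup G :=
  S ⊓ centralizer (S : Set G)

/-- What is used of a Sylow 2-subgroup of `PSU₃(q)`. -/
structure UType (P : Type u) [Group P] (q : ℕ) : Prop where
  pow : ∃ n : ℕ, 3 ≤ n ∧ q = 2 ^ n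
  card : Nat.card P = q ^ 3
  card_center : Nat.card ↥(Subgroup.center P) = q
  omega : ∀ x : P, x * x = 1 ↔ x ∈ Subgroup.center P
  sq : ∀ x : P, x * x ∈ Subgroup.center P
  comm : ∀ x y : P, ⁅x, y⁆ ∈ Subgroup.center P
  full : ∀ u : P, u ∉ Subgroup.center P → ∀ z ∈ Subgroup.center P, ∃ r : P, z = ⁅r, u⁆
  abel : ∀ u : P, u ∉ Subgroup.center P → ∀ x y : P, x * u = u * x → y * u = u * y → x * y = y * x

open Cfsg.Agent.Unitary in
theorem uType_sylThree {F : Type u} [Field F] [Fintype F] {q n : ℕ} {hF : Fintype.card F = q ^ 2}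
    {h2 : (2 : F) = 0} (hn : 3 ≤ n) (hq : q = 2 ^ n) : UType (sylThree hF h2) q := by
  refine ⟨⟨n, hn, hq⟩, card_sylThree, card_center, fun x => ?_, fun x => ?_, fun x y => ?_,
    fun u hu z hz => Goldschmidt.Facts.comm_full hu hz, fun u hu x y hx hy => ?_⟩
  · rw [Unitary.sq_eq_one_iff, Unitary.mem_center_iff]
  · exact (Unitary.mem_center_iff _).2 (coord_sq x).1
  · exact (Unitary.mem_center_iff _).2 (Goldschmidt.Facts.coordA_comm x y)
  · have ha : coordA u ≠ 0 := fun h => hu ((Unitary.mem_center_iff u).2 h)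
    have key : ∀ w : sylThree hF h2, w * u = u * w →
        coordA w ^ q * coordA u = coordA u ^ q * coordA w := fun w hw => by
      have h := congrArg coordB hw
      rw [(coord_mul w u).2, (coord_mul u w).2] at h
      linear_combination h
    have hx' := key x hx
    have hy' := key y hy
    refine ext' ?_ ?_
    · rw [(coord_mul x y).1, (coord_mul y x).1, add_comm]
    · have h3 : coordA x ^ q * coordA y = coordA y ^ q * coordA x := by
        refine mul_right_cancel₀ (mul_ne_zero ha (pow_ne_zero q ha)) ?_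
        linear_combination (coordA u ^ q * coordA y) * hx' - (coordA u ^ q * coordA x) * hy'
      rw [(coord_mul x y).2, (coord_mul y x).2]
      linear_combination h3

theorem UType.congr {P : Type u} {P' : Type v} [Group P] [Group P'] {q : ℕ} (h : UType P q)
    (e : P ≃* P') : UType P' q := by
  have hc : ∀ x : P', x ∈ Subgroup.center P' ↔ e.symm x ∈ Subgroup.center P := fun x => by
    rw [Subgroup.mem_center_iff, Subgroup.mem_center_iff]
    refine ⟨fun hx g => e.injective ?_, fun hx g => e.symm.injective ?_⟩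
    · rw [map_mul, map_mul, e.apply_symm_apply]
      exact hx (e g)
    · rw [map_mul, map_mul]
      exact hx (e.symm g)
  refine ⟨h.pow, by rw [← Nat.card_congr e.toEquiv, h.card], ?_, fun x => ?_, fun x => ?_, fun x y => ?_,
    fun u hu z hz => ?_, fun u hu x y hx hy => ?_⟩
  · rw [← h.card_center]
    exact Nat.card_congr (e.symm.toEquiv.subtypeEquiv fun x => hc x)
  · rw [hc, ← h.omega, ← map_mul, MulEquiv.map_eq_one_iff]
  · rw [hc, map_mul]; exact h.sq _
  · rw [hc, map_commutatorElement]; exact h.comm _ _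
  · obtain ⟨r, hr⟩ := h.full (e.symm u) (fun hu' => hu ((hc u).2 hu')) (e.symm z) ((hc z).1 hz)
    refine ⟨e r, e.symm.injective ?_⟩
    rw [hr, map_commutatorElement, e.symm_apply_apply]
  · refine e.symm.injective ?_
    rw [map_mul, map_mul]
    exact h.abel (e.symm u) (fun hu' => hu ((hc u).2 hu')) _ _
      (by rw [← map_mul, hx, map_mul]) (by rw [← map_mul, hy, map_mul])

/-- `UType` read inside the ambient group. -/
structure Shape {G : Type u} [Group G] (S : Subgroup G) (q : ℕ) : Prop where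
  pow : ∃ n : ℕ, 3 ≤ n ∧ q = 2 ^ n
  card : Nat.card ↥S = q ^ 3
  card_zc : Nat.card ↥(zc S) = q
  omega : ∀ x ∈ S, (x * x = 1 ↔ x ∈ zc S)
  sq : ∀ x ∈ S, x * x ∈ zc S
  comm : ∀ x ∈ S, ∀ y ∈ S, ⁅x, y⁆ ∈ zc S
  full : ∀ u ∈ S, u ∉ zc S → ∀ z ∈ zc S, ∃ r ∈ S, z = ⁅r, u⁆
  abel : ∀ u ∈ S, u ∉ zc S → ∀ x ∈ S, ∀ y ∈ S, x * u = u * x → y * u = u * y → x * y = y * x

variable {G : Type u} [Group G]

theorem mem_zc {S : Subgroup G} {x : G} : x ∈ zc S ↔ x ∈ S ∧ ∀ y ∈ S, y * x = x * y := by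
  rw [mem_inf, mem_centralizer_iff]
  rfl

theorem mem_zc_iff_center {S : Subgroup G} (x : ↥S) : (x : G) ∈ zc S ↔ x ∈ Subgroup.center ↥S := by
  rw [mem_zc, Subgroup.mem_center_iff]
  exact ⟨fun h y => Subtype.ext (h.2 y y.2), fun h => ⟨x.2, fun y hy => congrArg Subtype.val (h ⟨y, hy⟩)⟩⟩

theorem shape_of_uType {S : Subgroup G} {q : ℕ} (h : UType ↥S q) : Shape S q := by
  refine ⟨h.pow, h.card, ?_, fun x hx => ?_, fun x hx => ?_, fun x hx y hy => ?_,
    fun u hu hun z hz => ?_, fun u hu hun x hx y hy h1 h2 => ?_⟩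
  · rw [← h.card_center]
    exact Nat.card_congr
      { toFun := fun x => ⟨⟨x.1, x.2.1⟩, (mem_zc_iff_center ⟨x.1, x.2.1⟩).1 x.2⟩
        invFun := fun x => ⟨x.1.1, (mem_zc_iff_center x.1).2 x.2⟩
        left_inv := fun _ => rfl
        right_inv := fun _ => rfl }
  · rw [show x = ((⟨x, hx⟩ : ↥S) : G) from rfl, mem_zc_iff_center, ← h.omega, ← Subtype.coe_inj]
    rfl
  · exact (mem_zc_iff_center (⟨x, hx⟩ * ⟨x, hx⟩)).2 (h.sq ⟨x, hx⟩)
  · exact (mem_zc_iff_center ⁅(⟨x, hx⟩ : ↥S), ⟨y, hy⟩⁆).2 (h.comm ⟨x, hx⟩ ⟨y, hy⟩)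
  · obtain ⟨r, hr⟩ := h.full ⟨u, hu⟩ (fun hc => hun ((mem_zc_iff_center ⟨u, hu⟩).2 hc)) ⟨z, hz.1⟩
      ((mem_zc_iff_center ⟨z, hz.1⟩).1 hz)
    exact ⟨r, r.2, congrArg Subtype.val hr⟩
  · exact congrArg Subtype.val (h.abel ⟨u, hu⟩ (fun hc => hun ((mem_zc_iff_center ⟨u, hu⟩).2 hc))
      ⟨x, hx⟩ ⟨y, hy⟩ (Subtype.ext h1) (Subtype.ext h2))

theorem Shape.uType {S : Subgroup G} {q : ℕ} (h : Shape S q) : UType ↥S q := by
  refine ⟨h.pow, h.card, ?_, fun x => ?_, fun x => ?_, fun x y => ?_, fun u hu z hz => ?_,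
    fun u hu x y h1 h2 => ?_⟩
  · rw [← h.card_zc]
    exact Nat.card_congr
      { toFun := fun x => ⟨x.1.1, (mem_zc_iff_center x.1).2 x.2⟩
        invFun := fun x => ⟨⟨x.1, x.2.1⟩, (mem_zc_iff_center ⟨x.1, x.2.1⟩).1 x.2⟩
        left_inv := fun _ => rfl
        right_inv := fun _ => rfl }
  · rw [← mem_zc_iff_center, ← h.omega x x.2, ← Subtype.coe_inj]
    rfl
  · rw [← mem_zc_iff_center]; exact h.sq x x.2
  · rw [← mem_zc_iff_center]; exact h.comm x x.2 y y.2
  · obtain ⟨r, hr, he⟩ := h.full u u.2 (fun hc => hu ((mem_zc_iff_center u).1 hc)) z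
      ((mem_zc_iff_center z).2 hz)
    exact ⟨⟨r, hr⟩, Subtype.ext he⟩
  · exact Subtype.ext (h.abel u u.2 (fun hc => hu ((mem_zc_iff_center u).1 hc)) x x.2 y y.2
      (congrArg Subtype.val h1) (congrArg Subtype.val h2))

/-- The image under a homomorphism injective on `S`. -/
theorem Shape.map {H : Type v} [Group H] {S : Subgroup G} {q : ℕ} (h : Shape S q) (f : G →* H)
    (hf : ∀ x ∈ S, f x = 1 → x = 1) : Shape (S.map f) q := by
  refine shape_of_uType (h.uType.congr (MulEquiv.ofBijective (f.subgroupMap S) ⟨?_, f.subgroupMap_surjective S⟩))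
  rw [injective_iff_map_eq_one]
  exact fun x hx => Subtype.ext (hf x x.2 (congrArg Subtype.val hx))

namespace Shape

variable {S : Subgroup G} {q : ℕ} (h : Shape S q)
include h

theorem q_pos : 0 < q := by obtain ⟨n, -, rfl⟩ := h.pow; exact Nat.two_pow_pos n

theorem eight_le : 8 ≤ q := by
  obtain ⟨n, hn, rfl⟩ := h.pow
  exact le_trans (by norm_num : 8 ≤ 2 ^ 3) (Nat.pow_le_pow_right (by norm_num) hn)

theorem sq_zc {z : G} (hz : z ∈ zc S) : z * z = 1 := (h.omega z hz.1).2 hz

/-- `S` is not its centre. -/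
theorem exists_not_mem [Finite G] : ∃ u ∈ S, u ∉ zc S := by
  by_contra! hc
  have h1 := Subgroup.card_le_of_le (show S ≤ zc S from hc)
  rw [h.card, h.card_zc] at h1
  have h8 := h.eight_le
  nlinarith [Nat.mul_le_mul h8 (Nat.mul_le_mul h8 le_rfl : 8 * q ≤ q * q)]

/-- The centraliser of a non-central element has order `q ^ 2`. -/
theorem card_centralizer [Finite G] {u : G} (hu : u ∈ S) (hun : u ∉ zc S) :
    Nat.card ↥(S ⊓ centralizer ({u} : Set G)) = q ^ 2 := by
  let f : ↥S →* ↥(zc S) :=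
    { toFun := fun r => ⟨⁅(r : G), u⁆, h.comm r r.2 u hu⟩
      map_one' := Subtype.ext (commutatorElement_one_left u)
      map_mul' := fun r s => Subtype.ext (by
        show ⁅(r : G) * s, u⁆ = ⁅(r : G), u⁆ * ⁅(s : G), u⁆
        have hc := (h.comm s s.2 u hu).1
        have hc' := (mem_zc.1 (h.comm s s.2 u hu)).2 r r.2
        have hc'' := (mem_zc.1 (h.comm s s.2 u hu)).2 ⁅(r : G), u⁆ (h.comm r r.2 u hu).1
        rw [show ⁅(r : G) * s, u⁆ = r * ⁅(s : G), u⁆ * (r : G)⁻¹ * ⁅(r : G), u⁆ by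
          simp only [commutatorElement_def]; group, hc', mul_inv_cancel_right, ← hc'']) }
  have hsurj : Function.Surjective f := fun z => by
    obtain ⟨r, hr, he⟩ := h.full u hu hun z z.2
    exact ⟨⟨r, hr⟩, Subtype.ext he.symm⟩
  have hker : f.ker = (S ⊓ centralizer ({u} : Set G)).subgroupOf S := by
    ext r
    rw [MonoidHom.mem_ker, mem_subgroupOf, mem_inf, mem_centralizer_singleton_iff, ← Subtype.coe_inj]
    exact ⟨fun e => ⟨r.2, commutatorElement_eq_one_iff_mul_comm.1 e⟩,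
      fun e => commutatorElement_eq_one_iff_mul_comm.2 e.2⟩
  have h1 := Subgroup.card_mul_index f.ker
  rw [Subgroup.index_ker, f.range_eq_top.2 hsurj, Subgroup.card_top, h.card_zc, hker,
    Nat.card_congr (Subgroup.subgroupOfEquivOfLe (inf_le_left (b := centralizer ({u} : Set G)))).toEquiv,
    h.card] at h1
  exact Nat.eq_of_mul_eq_mul_right h.q_pos (by rw [h1]; ring)

omit h in
theorem zc_le_centralizer {u : G} (hu : u ∈ S) : zc S ≤ S ⊓ centralizer ({u} : Set G) := fun z hz =>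
  ⟨hz.1, mem_centralizer_singleton_iff.2 ((mem_zc.1 hz).2 u hu).symm⟩

theorem centralizer_comm {u : G} (hu : u ∈ S) (hun : u ∉ zc S) :
    IsMulCommutative ↥(S ⊓ centralizer ({u} : Set G)) :=
  ⟨⟨fun x y => Subtype.ext (h.abel u hu hun x x.2.1 y y.2.1 (mem_centralizer_singleton_iff.1 x.2.2)
    (mem_centralizer_singleton_iff.1 y.2.2))⟩⟩

/-- Every central element is a square of an element commuting with `u`. -/
theorem exists_sq [Finite G] {u : G} (hu : u ∈ S) (hun : u ∉ zc S) {z : G} (hz : z ∈ zc S) :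
    ∃ w ∈ S, w * u = u * w ∧ w * w = z := by
  set R := S ⊓ centralizer ({u} : Set G) with hR
  let f : ↥R →* ↥(zc S) :=
    { toFun := fun r => ⟨(r : G) * r, h.sq r r.2.1⟩
      map_one' := Subtype.ext (one_mul 1)
      map_mul' := fun r s => Subtype.ext (by
        show (r : G) * s * (r * s) = (r : G) * r * (s * s)
        have hc : (s : G) * r = r * s := h.abel u hu hun s s.2.1 r r.2.1
          (mem_centralizer_singleton_iff.1 s.2.2) (mem_centralizer_singleton_iff.1 r.2.2)
        rw [mul_assoc, ← mul_assoc (s : G), hc]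
        group) }
  have hker : f.ker = (zc S).subgroupOf R := by
    ext r
    rw [MonoidHom.mem_ker, mem_subgroupOf, ← h.omega r r.2.1, ← Subtype.coe_inj]
    rfl
  have h1 := Subgroup.card_mul_index f.ker
  rw [Subgroup.index_ker, hker,
    Nat.card_congr (Subgroup.subgroupOfEquivOfLe (zc_le_centralizer hu)).toEquiv, h.card_zc,
    show Nat.card ↥R = q ^ 2 from h.card_centralizer hu hun] at h1
  have htop : f.range = ⊤ := Subgroup.eq_top_of_card_eq _ (by
    rw [h.card_zc]
    exact Nat.eq_of_mul_eq_mul_left h.q_pos (by rw [h1]; ring))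
  obtain ⟨r, hr⟩ := (MonoidHom.range_eq_top.1 htop) ⟨z, hz⟩
  exact ⟨r, r.2.1, mem_centralizer_singleton_iff.1 r.2.2, congrArg Subtype.val hr⟩

end Shape

end Cfsg.Agent.U3Type
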