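import Cfsg.Agent.Lib.U3Type.Shape
import Cfsg.Agent.Lib.HallHigman.PSolvable
import Cfsg.Agent.Lib.Cores.Basic

/-!
# Soluble groups with Sylow 2-subgroups of type `PSU₃(q)` (owner: helper72)

* `centralizes_of_stabilises` : an odd element stabilising a chain of length two centralises
* `normal_of_solvable` : with trivial odd core the Sylow 2-subgroup is normal
-/

set_option autoImplicit false
set_option linter.unusedSectionVars false
set_option linter.style.haveILetI false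

namespace Cfsg.Agent.U3Type

open Cfsg Subgroup
open scoped commutatorElement

universe u

variable {H : Type u} [Group H]

/-- An element `y` of odd order with `y x y⁻¹ = x z`, `z` an involution fixed by `y`, fixes `x`. -/
theorem centralizes_of_stabilises {y x : H} (hy : Odd (orderOf y))
    (hfix : y * (x⁻¹ * (y * x * y⁻¹)) * y⁻¹ = x⁻¹ * (y * x * y⁻¹))
    (hsq : (x⁻¹ * (y * x * y⁻¹)) * (x⁻¹ * (y * x * y⁻¹)) = 1) : y * x = x * y := by
  set z := x⁻¹ * (y * x * y⁻¹) with hz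
  have hx : y * x * y⁻¹ = x * z := by rw [hz, mul_inv_cancel_left]
  have hpow : ∀ k : ℕ, y ^ k * x * (y ^ k)⁻¹ = x * z ^ k := by
    intro k
    induction k with
    | zero => simp
    | succ k ih =>
      have hzk : y * z ^ k * y⁻¹ = z ^ k := by rw [← conj_pow, hfix]
      calc y ^ (k + 1) * x * (y ^ (k + 1))⁻¹ = y * (y ^ k * x * (y ^ k)⁻¹) * y⁻¹ := by
            rw [pow_succ']; group
        _ = y * x * y⁻¹ * (y * z ^ k * y⁻¹) := by rw [ih]; group
        _ = x * z ^ (k + 1) := by rw [hzk, hx, pow_succ', mul_assoc]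
  have h1 := hpow (orderOf y)
  rw [pow_orderOf_eq_one, one_mul, inv_one, mul_one, left_eq_mul] at h1
  obtain ⟨j, hj⟩ := hy
  rw [hj, pow_succ, pow_mul, pow_two, hsq, one_pow, one_mul] at h1
  rw [h1, mul_one, mul_inv_eq_iff_eq_mul] at hx
  exact hx

/-- A soluble group with trivial odd core and Sylow subgroups of type `PSU₃(q)` is 2-closed. -/
theorem normal_of_solvable [Finite H] [Group.IsSolvable H] (hO : pPrimeCore 2 H = ⊥) (S : Sylow 2 H)
    {q : ℕ} (hS : Shape (S : Subgroup H) q) : (S : Subgroup H).Normal := by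
  haveI : Fact (Nat.Prime 2) := ⟨Nat.prime_two⟩
  set P := pCore 2 H with hP
  haveI hPn : P.Normal := Cores.pCore_normal 2 H
  have hPS : P ≤ (S : Subgroup H) := Cores.pCore_le_sylow S
  have hCP : centralizer (P : Set H) ≤ P :=
    Solvable.centralizer_pCore_le (Solvable.isPiSeparable_of_isSolvable _) hO
  have hZP : zc (S : Subgroup H) ≤ P := fun z hz =>
    hCP (mem_centralizer_iff.2 fun x hx => (mem_zc.1 hz).2 x (hPS hx))
  suffices hSP : (S : Subgroup H) ≤ P by
    rw [le_antisymm hSP hPS]; exact hPn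
  have hzinv : ∀ g : H, ∀ z ∈ zc (S : Subgroup H), g * z * g⁻¹ ∈ zc (S : Subgroup H) := fun g z hz => by
    have hm := hPn.conj_mem z (hZP hz) g
    rw [← hS.omega _ (hPS hm), show g * z * g⁻¹ * (g * z * g⁻¹) = g * (z * z) * g⁻¹ by group,
      hS.sq_zc hz, mul_one, mul_inv_cancel]
  -- the stabiliser of the chain `P ≥ Z ≥ 1`
  let K : Subgroup H :=
    { carrier := {g | (∀ x ∈ P, x⁻¹ * (g * x * g⁻¹) ∈ zc (S : Subgroup H)) ∧
        ∀ z ∈ zc (S : Subgroup H), g * z * g⁻¹ = z}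
      one_mem' := ⟨fun x _ => by simp, fun z _ => by simp⟩
      mul_mem' := fun {g g'} hg hg' => ⟨fun x hx => by
          have hz := hg'.1 x hx
          have e : x⁻¹ * (g * g' * x * (g * g')⁻¹) =
              x⁻¹ * (g * x * g⁻¹) * (g * (x⁻¹ * (g' * x * g'⁻¹)) * g⁻¹) := by group
          rw [e, hg.2 _ hz]
          exact mul_mem (hg.1 x hx) hz,
        fun z hz => by
          rw [show g * g' * z * (g * g')⁻¹ = g * (g' * z * g'⁻¹) * g⁻¹ by group, hg'.2 z hz, hg.2 z hz]⟩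
      inv_mem' := fun {g} hg => ⟨fun x hx => by
          have hx' : g⁻¹ * x * g ∈ P := by simpa using hPn.conj_mem x hx g⁻¹
          have hz := hg.1 _ hx'
          have e : x⁻¹ * (g⁻¹ * x * g⁻¹⁻¹) =
              ((g⁻¹ * x * g)⁻¹ * (g * (g⁻¹ * x * g) * g⁻¹))⁻¹ := by
            group
          rw [e]
          exact inv_mem hz,
        fun z hz => by
          have := hg.2 z hz
          calc g⁻¹ * z * g⁻¹⁻¹ = g⁻¹ * (g * z * g⁻¹) * g := by rw [this, inv_inv]
            _ = z := by group⟩ }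
  have hKn : K.Normal := ⟨fun g hg c => ⟨fun x hx => by
      have hx' : c⁻¹ * x * c ∈ P := by simpa using hPn.conj_mem x hx c⁻¹
      rw [show x⁻¹ * (c * g * c⁻¹ * x * (c * g * c⁻¹)⁻¹) =
        c * ((c⁻¹ * x * c)⁻¹ * (g * (c⁻¹ * x * c) * g⁻¹)) * c⁻¹ by group]
      exact hzinv c _ (hg.1 _ hx'),
    fun z hz => by
      have hz' := hg.2 _ (hzinv c⁻¹ z hz)
      rw [inv_inv] at hz'
      calc c * g * c⁻¹ * z * (c * g * c⁻¹)⁻¹ = c * (g * (c⁻¹ * z * c) * g⁻¹) * c⁻¹ := by group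
        _ = c * (c⁻¹ * z * c) * c⁻¹ := by rw [hz']
        _ = z := by group⟩⟩
  have hK2 : IsPGroup 2 ↥K := by
    intro g
    obtain ⟨k, m, hm, he⟩ := Nat.exists_eq_two_pow_mul_odd (orderOf_pos g).ne'
    refine ⟨k, Subtype.ext ?_⟩
    set y : H := (g : H) ^ 2 ^ k with hy
    have hyo : Odd (orderOf y) := by
      refine hm.of_dvd_nat (orderOf_dvd_of_pow_eq_one ?_)
      rw [hy, ← pow_mul, ← he, ← Subgroup.orderOf_coe g, pow_orderOf_eq_one]
    have hyK : y ∈ K := pow_mem g.2 _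
    have hyP : y ∈ P := hCP (mem_centralizer_iff.2 fun x hx =>
      (centralizes_of_stabilises hyo (hyK.2 _ (hyK.1 x hx)) (hS.sq_zc (hyK.1 x hx))).symm)
    obtain ⟨j, hj⟩ := IsPGroup.iff_orderOf.1 (Cores.isPGroup_pCore 2 H) ⟨y, hyP⟩
    rw [Subgroup.orderOf_mk] at hj
    exact orderOf_eq_one_iff.1 (Nat.eq_one_of_dvd_coprimes
      ((Nat.coprime_two_left.2 hyo).pow_left j) (dvd_of_eq hj) dvd_rfl)
  refine le_trans (fun s hs => ?_) (Cores.le_pCore hKn hK2)
  refine ⟨fun x hx => ?_, fun z hz => ?_⟩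
  · have := hS.comm _ (inv_mem (hPS hx)) s hs
    rwa [show x⁻¹ * (s * x * s⁻¹) = ⁅x⁻¹, s⁆ by rw [commutatorElement_def]; group]
  · rw [mul_inv_eq_iff_eq_mul]; exact (mem_zc.1 hz).2 s hs

end Cfsg.Agent.U3Type
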